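import Cfsg.Agent.Lib.ExtPrim.Manning

/-!
Abelian normal subgroups of the point stabiliser of an extremely primitive group.
-/

set_option autoImplicit false

namespace Cfsg.Agent.Lib.ExtPrim

open MulAction

variable {G : Type*} [Group G] [Finite G] {Ω : Type*} [MulAction G Ω] [FaithfulSMul G Ω]

omit [Finite G] in
theorem exists_ne_of_stabilizer_ne_bot [Nonempty Ω] {α : Ω} (hH : stabilizer G α ≠ ⊥) :
    ∃ ω : Ω, ω ≠ α := by
  by_contra h
  push Not at h
  exact hH ((Subgroup.eq_bot_iff_forall _).mpr fun k _ =>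
    FaithfulSMul.eq_of_smul_eq_smul (α := Ω) fun b => by rw [h (k • b), h b, one_smul])

/-- An abelian normal subgroup of the stabiliser acts semiregularly on the other points. -/
theorem abelian_semiregular (hprim : IsPreprimitive G Ω) (hep : OrbitPrimitive G Ω) (α : Ω)
    (M : Subgroup G) [IsMulCommutative M] (hM : M ≠ ⊥) (hle : M ≤ stabilizer G α)
    (hn : stabilizer G α ≤ Subgroup.normalizer (M : Set G)) {ω : Ω} (hω : ω ≠ α) {m : G}
    (hm : m ∈ M) (hmω : m • ω = ω) : m = 1 := by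
  have hH : stabilizer G α ≠ ⊥ := fun h => hM (le_bot_iff.mp (h ▸ hle))
  rw [← Subgroup.mem_bot, ← kernel_eq_bot hprim hep hω hH, mem_kernel]
  refine ⟨hle hm, fun x hx => ?_⟩
  rw [← orbit_eq hprim hep α M hM hle hn ω] at hx
  obtain ⟨m', hm', rfl⟩ := mem_orbit_subgroup.mp hx
  have hc : m * m' = m' * m := congrArg Subtype.val (mul_comm' (⟨m, hm⟩ : M) ⟨m', hm'⟩)
  rw [← mul_smul, hc, mul_smul, hmω]

/-- An abelian normal subgroup of the stabiliser is self-centralising in it. -/
theorem abelian_centralizing (hprim : IsPreprimitive G Ω) (hep : OrbitPrimitive G Ω) (α : Ω)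
    (M : Subgroup G) [IsMulCommutative M] (hM : M ≠ ⊥) (hle : M ≤ stabilizer G α)
    (hn : stabilizer G α ≤ Subgroup.normalizer (M : Set G)) {h : G} (hh : h • α = α)
    (hc : ∀ m ∈ M, h * m = m * h) : h ∈ M := by
  haveI : Nonempty Ω := ⟨α⟩
  have hH : stabilizer G α ≠ ⊥ := fun h => hM (le_bot_iff.mp (h ▸ hle))
  obtain ⟨ω, hω⟩ := exists_ne_of_stabilizer_ne_bot hH
  have horb := orbit_eq hprim hep α M hM hle hn ω
  obtain ⟨m, hm, hmω⟩ := mem_orbit_subgroup.mp
    (horb ▸ mem_orbit_stabilizer.mpr ⟨h, hh, rfl⟩ : h • ω ∈ orbit M ω)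
  have hk : m⁻¹ * h ∈ kernel G α ω := by
    rw [mem_kernel]
    refine ⟨?_, fun x hx => ?_⟩
    · rw [mul_smul, hh]; exact (stabilizer G α).inv_mem (hle hm)
    · rw [← horb] at hx
      obtain ⟨m', hm', rfl⟩ := mem_orbit_subgroup.mp hx
      have hcm : m⁻¹ * m' = m' * m⁻¹ :=
        congrArg Subtype.val (mul_comm' (⟨m⁻¹, M.inv_mem hm⟩ : M) ⟨m', hm'⟩)
      rw [← mul_smul, mul_assoc, hc m' hm', ← mul_assoc, hcm, mul_assoc, mul_smul, mul_smul, ← hmω,
        inv_smul_smul]
  rw [kernel_eq_bot hprim hep hω hH, Subgroup.mem_bot, inv_mul_eq_one] at hk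
  exact hk ▸ hm

/-- The number of points other than `α` is a multiple of the order of an abelian normal subgroup
of the stabiliser. -/
theorem card_dvd_card_sub_one (hprim : IsPreprimitive G Ω) (hep : OrbitPrimitive G Ω) (α : Ω)
    [Finite Ω] (M : Subgroup G) [IsMulCommutative M] (hM : M ≠ ⊥) (hle : M ≤ stabilizer G α)
    (hn : stabilizer G α ≤ Subgroup.normalizer (M : Set G)) : Nat.card M ∣ Nat.card Ω - 1 := by
  classical
  haveI := Fintype.ofFinite Ω
  haveI : Nonempty Ω := ⟨α⟩
  -- partition the points other than `α` into `M`-orbits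
  let s : Finset Ω := Finset.univ.erase α
  have hmap : ∀ x ∈ s, (Quotient.mk'' x : orbitRel.Quotient M Ω) ∈
      s.image (fun x => (Quotient.mk'' x : orbitRel.Quotient M Ω)) :=
    fun x hx => Finset.mem_image_of_mem _ hx
  rw [Nat.card_eq_fintype_card (α := Ω), ← Finset.card_univ (α := Ω),
    ← Finset.card_erase_of_mem (Finset.mem_univ α),
    Finset.card_eq_sum_card_fiberwise (f := fun x => (Quotient.mk'' x : orbitRel.Quotient M Ω)) hmap]
  refine Finset.dvd_sum fun c hc => dvd_of_eq ?_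
  obtain ⟨ω, hω, rfl⟩ := Finset.mem_image.mp hc
  have hω' : ω ≠ α := Finset.ne_of_mem_erase hω
  have hinj : Function.Injective fun m : M => (m : G) • ω := by
    intro a b hab
    have h1 := abelian_semiregular hprim hep α M hM hle hn hω' (M.mul_mem (M.inv_mem b.2) a.2)
      (by rw [mul_smul, show (a : G) • ω = (b : G) • ω from hab, inv_smul_smul])
    exact Subtype.ext (inv_mul_eq_one.mp h1).symm
  rw [← Set.ncard_coe_finset, ← Set.ncard_range_of_injective hinj]
  congr 1
  ext x
  simp only [Finset.coe_filter, Set.mem_setOf_eq, Set.mem_range, s, Finset.mem_erase,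
    Finset.mem_univ, and_true, Quotient.eq'']
  constructor
  · rintro ⟨m, rfl⟩
    refine ⟨fun he => hω' ?_, ⟨m, rfl⟩⟩
    have h2 : (m : G) • α = α := hle m.2
    exact smul_left_cancel (m : G) (he.trans h2.symm)
  · rintro ⟨-, m, hm⟩
    exact ⟨m, hm⟩

end Cfsg.Agent.Lib.ExtPrim
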