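import Mathlib

/-! The conjugation representation on an elementary abelian normal subgroup. -/

set_option autoImplicit false
set_option linter.style.haveILetI false

namespace Cfsg.Agent.Lib.ExtPrim

/-- A group acts on an elementary abelian normal subgroup of order `p^e` through `GL_e(p)`, the
kernel being the centraliser. -/
theorem exists_hom_GL {H : Type*} [Group H] [Finite H] (p e : ℕ) [hp : Fact p.Prime]
    (F : Subgroup H) [F.Normal] [IsMulCommutative F] (hFp : ∀ x ∈ F, x ^ p = 1)
    (hcard : Nat.card F = p ^ e) :
    ∃ φ : H →* GL (Fin e) (ZMod p), ∀ h : H, h ∈ φ.ker ↔ ∀ f ∈ F, h * f = f * h := by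
  letI : CommGroup F := { (inferInstance : Group F) with mul_comm := fun a b => mul_comm' a b }
  have hmod : ∀ x : Additive F, p • x = 0 := fun x => by
    show Additive.ofMul (Additive.toMul x ^ p) = 0
    rw [show Additive.toMul x ^ p = 1 from Subtype.ext (hFp _ (Additive.toMul x).2)]
    rfl
  letI : Module (ZMod p) (Additive F) := AddCommGroup.zmodModule (n := p) hmod
  haveI : Module.Finite (ZMod p) (Additive F) := Module.Finite.of_finite
  have hfr : Module.finrank (ZMod p) (Additive F) = e := by
    have h1 := Module.natCard_eq_pow_finrank (K := ZMod p) (V := Additive F)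
    rw [Nat.card_zmod, show Nat.card (Additive F) = Nat.card F from rfl, hcard] at h1
    exact (Nat.pow_right_injective hp.out.two_le h1).symm
  let b := Module.finBasisOfFinrankEq (ZMod p) (Additive F) hfr
  let L : H →* Module.End (ZMod p) (Additive F) :=
    { toFun := fun h =>
        (AddMonoidHom.toZModLinearMap p (MonoidHom.toAdditive (MulAut.conjNormal h : F ≃* F).toMonoidHom))
      map_one' := LinearMap.ext fun x => by
        show Additive.ofMul (MulAut.conjNormal (1 : H) (Additive.toMul x)) = x
        simp
      map_mul' := fun g h => LinearMap.ext fun x => by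
        show Additive.ofMul (MulAut.conjNormal (g * h) (Additive.toMul x)) =
          Additive.ofMul (MulAut.conjNormal g (MulAut.conjNormal h (Additive.toMul x)))
        rw [map_mul]; rfl }
  let f : H →* Matrix (Fin e) (Fin e) (ZMod p) :=
    (LinearMap.toMatrixAlgEquiv b).toMonoidHom.comp L
  refine ⟨f.toHomUnits, fun h => ?_⟩
  rw [MonoidHom.mem_ker]
  constructor
  · intro hh m hm
    have h1 : f h = 1 := congrArg Units.val hh
    have h2 : L h = 1 := (LinearMap.toMatrixAlgEquiv b).injective (h1.trans (map_one _).symm)
    have h3 : MulAut.conjNormal h (⟨m, hm⟩ : F) = ⟨m, hm⟩ :=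
      Additive.ofMul.injective (LinearMap.congr_fun h2 (Additive.ofMul (⟨m, hm⟩ : F)))
    have h4 := congrArg Subtype.val h3
    rw [MulAut.conjNormal_apply] at h4
    exact mul_inv_eq_iff_eq_mul.mp h4
  · intro hh
    refine Units.ext ?_
    have h2 : L h = 1 := LinearMap.ext fun x => by
      show Additive.ofMul (MulAut.conjNormal h (Additive.toMul x)) = x
      have h3 : MulAut.conjNormal h (Additive.toMul x) = Additive.toMul x := Subtype.ext (by
        rw [MulAut.conjNormal_apply]
        exact mul_inv_eq_iff_eq_mul.mpr (hh _ (Additive.toMul x).2))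
      rw [h3]; rfl
    show LinearMap.toMatrixAlgEquiv b (L h) = 1
    rw [h2, map_one]

end Cfsg.Agent.Lib.ExtPrim
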