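import Cfsg.Agent.Lib.ExtPrim.ProductCase

/-!
The Mann–Praeger–Seress theorem, given `NoLocalComplement`.
-/

set_option autoImplicit false
set_option linter.style.haveILetI false

namespace Cfsg.Agent.Lib.ExtPrim

open MulAction

theorem affine_or_almostSimple (hT : NoLocalComplement) {G : Type*} [Group G] [Finite G]
    {Ω : Type*} [MulAction G Ω] [FaithfulSMul G Ω] [Nontrivial Ω]
    (hprim : IsPreprimitive G Ω) (hep : OrbitPrimitive G Ω) :
    (∃ N : Subgroup G, N.Normal ∧ N ≠ ⊥ ∧ IsMulCommutative N ∧ ∀ ω : Ω, stabilizer N ω = ⊥) ∨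
      (∃ T : Subgroup G, T.Normal ∧ IsSimpleGroup T ∧ ¬ IsMulCommutative T ∧
        Subgroup.centralizer (T : Set G) = ⊥) := by
  haveI := hprim
  rcases Primitive62.primitive_cases (G := G) (Ω := Ω) with
    ⟨N, r, hr, hNn, hN, hc, -, hNt, hreg⟩ | hAS | ⟨N, hNn, hNt, hmin, S, iS, iSs, iSf, k, hk, hS, ⟨e⟩, hcase⟩
  · exact Or.inl ⟨N, hNn, hN, hc, hreg⟩
  · exact Or.inr hAS
  obtain ⟨α⟩ := (inferInstance : Nonempty Ω)
  let i : Fin k := ⟨0, hk⟩
  haveI := hNn
  haveI := hNt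
  by_cases hCk : Subgroup.centralizer (N : Set G) ≠ ⊥ ∨ 2 ≤ k
  · exfalso
    by_cases hM : N ⊓ stabilizer G α = ⊥
    · refine no_regular_socle e i hT hprim hep hmin hS (fun a => ?_) hCk α
      refine Perm.stabilizer_subgroup_eq_bot_iff.mpr fun n hn hna => ?_
      obtain ⟨g, hg, rfl⟩ := Perm.exists_mem_smul_eq N α a
      have h1 : g⁻¹ * n * g ∈ N ⊓ stabilizer G α :=
        ⟨N.mul_mem (N.mul_mem (N.inv_mem hg) hn) hg,
          show (g⁻¹ * n * g) • α = α by rw [mul_smul, mul_smul, hna, inv_smul_smul]⟩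
      rw [hM, Subgroup.mem_bot] at h1
      calc n = g * (g⁻¹ * n * g) * g⁻¹ := by group
        _ = 1 := by rw [h1]; group
    · refine no_product_socle e i hT hprim hep hmin hS ?_ α hM
      refine hcase.resolve_right fun hreg => hM ?_
      exact (Subgroup.eq_bot_iff_forall _).mpr fun n hn =>
        Perm.stabilizer_subgroup_eq_bot_iff.mp (hreg α) n hn.1 hn.2
  · push Not at hCk
    obtain ⟨hC, hk2⟩ := hCk
    obtain rfl : k = 1 := by omega
    let e' : N ≃* S := e.trans (MulEquiv.piUnique fun _ : Fin 1 => S)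
    refine Or.inr ⟨N, hNn, e'.isSimpleGroup, fun h => hS ?_, hC⟩
    exact IsMulCommutative.of_comm fun a b => e'.symm.injective (by
      rw [map_mul, map_mul]; exact mul_comm' _ _)

end Cfsg.Agent.Lib.ExtPrim
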