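import Cfsg.Agent.Lib.Perm.Basic

/-!
Extremely primitive groups: Manning's theorem, and normal subgroups of a point stabiliser.
-/

set_option autoImplicit false

namespace Cfsg.Agent.Lib.ExtPrim

open MulAction

variable {G : Type*} [Group G] {Ω : Type*} [MulAction G Ω]

/-- The hypothesis of extreme primitivity: each point stabiliser is primitive on each of its
orbits. -/
def OrbitPrimitive (G : Type*) [Group G] (Ω : Type*) [MulAction G Ω] : Prop :=
  ∀ (α : Ω) (ω : Ω), IsPreprimitive (stabilizer G α) (orbit (stabilizer G α) ω)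

theorem mem_orbit_stabilizer {α ω x : Ω} :
    x ∈ orbit (stabilizer G α) ω ↔ ∃ g : G, g • α = α ∧ g • ω = x :=
  ⟨fun ⟨⟨g, hg⟩, h⟩ => ⟨g, hg, h⟩, fun ⟨g, hg, h⟩ => ⟨⟨g, hg⟩, h⟩⟩

theorem mem_orbit_subgroup {M : Subgroup G} {ω x : Ω} :
    x ∈ orbit M ω ↔ ∃ m ∈ M, m • ω = x :=
  ⟨fun ⟨⟨g, hg⟩, h⟩ => ⟨g, hg, h⟩, fun ⟨g, hg, h⟩ => ⟨⟨g, hg⟩, h⟩⟩

/-- A subgroup of the point stabiliser normalised by it either fixes a suborbit pointwise or is
transitive on it. -/
theorem fixes_or_transitive (hep : OrbitPrimitive G Ω) (α ω : Ω) (M : Subgroup G)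
    (hle : M ≤ stabilizer G α) (hn : stabilizer G α ≤ Subgroup.normalizer (M : Set G)) :
    (∀ m ∈ M, ∀ x ∈ orbit (stabilizer G α) ω, m • x = x) ∨
      orbit M ω = orbit (stabilizer G α) ω := by
  haveI := hep α ω
  set H := stabilizer G α
  haveI hMn : (M.subgroupOf H).Normal := by
    constructor
    intro m hm h
    exact (Subgroup.mem_normalizer_iff.mp (hn h.2) _).mp hm
  let ω₀ : orbit H ω := ⟨ω, mem_orbit_self ω⟩
  rcases IsBlock.subsingleton_or_eq_univ (IsBlock.orbit_of_normal (N := M.subgroupOf H) ω₀) with h | h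
  · left
    intro m hm x hx
    obtain ⟨g, rfl⟩ := hx
    have hm' : (g : G)⁻¹ * m * (g : G) ∈ M := (Subgroup.mem_normalizer_iff''.mp (hn g.2) m).mp hm
    let m₀ : M.subgroupOf H := ⟨⟨(g : G)⁻¹ * m * (g : G), hle hm'⟩, hm'⟩
    have h1 : ((g : G)⁻¹ * m * (g : G)) • ω = ω :=
      congrArg Subtype.val (h (show m₀ • ω₀ ∈ orbit (M.subgroupOf H) ω₀ from ⟨m₀, rfl⟩)
        (mem_orbit_self ω₀))
    rw [mul_smul, mul_smul, inv_smul_eq_iff] at h1
    exact h1
  · right
    refine Set.Subset.antisymm ?_ ?_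
    · rintro x ⟨m, rfl⟩
      exact ⟨⟨m, hle m.2⟩, rfl⟩
    · intro x hx
      obtain ⟨m, hm⟩ : (⟨x, hx⟩ : orbit H ω) ∈ orbit (M.subgroupOf H) ω₀ := h ▸ Set.mem_univ _
      exact ⟨⟨((m : H) : G), m.2⟩, congrArg Subtype.val hm⟩

/-- The pointwise stabiliser in `G_α` of the orbit of `ω`. -/
def kernel (G : Type*) [Group G] {Ω : Type*} [MulAction G Ω] (α ω : Ω) : Subgroup G :=
  stabilizer G α ⊓ ⨅ x ∈ orbit (stabilizer G α) ω, stabilizer G x

theorem mem_kernel {α ω : Ω} {k : G} :
    k ∈ kernel G α ω ↔ k • α = α ∧ ∀ x ∈ orbit (stabilizer G α) ω, k • x = x := by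
  simp [kernel, Subgroup.mem_iInf]

theorem stabilizer_le_normalizer_kernel (α ω : Ω) :
    stabilizer G α ≤ Subgroup.normalizer (kernel G α ω : Set G) := by
  have key : ∀ g ∈ stabilizer G α, ∀ k ∈ kernel G α ω, g * k * g⁻¹ ∈ kernel G α ω := by
    intro g hg k hk
    obtain ⟨hkα, hkx⟩ := mem_kernel.mp hk
    have hginv : g⁻¹ • α = α := (stabilizer G α).inv_mem hg
    refine mem_kernel.mpr ⟨?_, fun x hx => ?_⟩
    · rw [mul_smul, mul_smul, hginv, hkα, hg]
    · rw [mul_smul, mul_smul, hkx (g⁻¹ • x), smul_inv_smul]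
      obtain ⟨t, ht, rfl⟩ := mem_orbit_stabilizer.mp hx
      exact mem_orbit_stabilizer.mpr ⟨g⁻¹ * t, by rw [mul_smul, ht, hginv], mul_smul _ _ _⟩
  intro g hg
  rw [Subgroup.mem_normalizer_iff]
  refine fun k => ⟨key g hg k, fun h => ?_⟩
  have := key g⁻¹ ((stabilizer G α).inv_mem hg) _ h
  simpa [mul_assoc] using this

variable [Finite G] [FaithfulSMul G Ω]

omit [FaithfulSMul G Ω] in
/-- The kernels of two paired suborbits agree. -/
theorem kernel_le_kernel (hprim : IsPreprimitive G Ω) (hep : OrbitPrimitive G Ω) {α ω : Ω}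
    (hω : ω ≠ α) : kernel G α ω ≤ kernel G ω α := by
  haveI := hprim
  haveI : Nontrivial Ω := ⟨⟨ω, α, hω⟩⟩
  intro k hk
  obtain ⟨hkα, hkx⟩ := mem_kernel.mp hk
  refine mem_kernel.mpr ⟨hkx ω (mem_orbit_self ω), fun γ hγ => ?_⟩
  by_contra hmove
  obtain ⟨g, hgω, rfl⟩ := mem_orbit_stabilizer.mp hγ
  set K := kernel G α ω
  have horb : orbit K (g • α) = orbit (stabilizer G α) (g • α) :=
    (fixes_or_transitive hep α (g • α) K (fun _ h => (mem_kernel.mp h).1)
      (stabilizer_le_normalizer_kernel α ω)).resolve_left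
      fun h => hmove (h k hk _ (mem_orbit_self _))
  set Δ := orbit (stabilizer G α) ω with hΔ
  have hsub : Δ ⊆ (g • ·) '' Δ := by
    intro x hx
    obtain ⟨h, hhα, rfl⟩ := mem_orbit_stabilizer.mp hx
    have hinv : h⁻¹ • α = α := (stabilizer G α).inv_mem hhα
    have hmem : h⁻¹ • (g • α) ∈ orbit K (g • α) := by
      rw [horb]; exact mem_orbit_stabilizer.mpr ⟨h⁻¹, hinv, rfl⟩
    obtain ⟨k', hk', he⟩ := mem_orbit_subgroup.mp hmem
    have hk'ω : k' • ω = ω := (mem_kernel.mp hk').2 ω (mem_orbit_self ω)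
    refine ⟨(g⁻¹ * h * k' * g) • ω, mem_orbit_stabilizer.mpr ⟨g⁻¹ * h * k' * g, ?_, rfl⟩, ?_⟩
    · rw [mul_smul, mul_smul, mul_smul, he, smul_inv_smul, inv_smul_smul]
    · show g • (g⁻¹ * h * k' * g) • ω = h • ω
      rw [mul_smul, mul_smul, mul_smul, smul_inv_smul, hgω, hk'ω]
  have hfin : Δ.Finite := Set.finite_range _
  have heq : (g • ·) '' Δ = Δ :=
    (Set.eq_of_subset_of_ncard_le hsub (Set.ncard_image_le hfin) (hfin.image _)).symm
  let L : Subgroup G :=
    { carrier := {x | (x • ·) '' Δ = Δ}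
      one_mem' := by simp
      mul_mem' := fun {a b} ha hb => by
        show ((a * b) • ·) '' Δ = Δ
        conv_rhs => rw [← ha, ← hb]
        rw [Set.image_image]
        exact Set.image_congr fun x _ => mul_smul a b x
      inv_mem' := fun {a} ha => by
        show (a⁻¹ • ·) '' Δ = Δ
        conv_lhs => rw [← ha]
        rw [Set.image_image]
        simp }
  have hle : stabilizer G α ≤ L := by
    intro h hh
    show (h • ·) '' Δ = Δ
    refine Set.eq_of_subset_of_ncard_le ?_ ?_ hfin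
    · rintro _ ⟨x, hx, rfl⟩
      obtain ⟨t, ht, rfl⟩ := mem_orbit_stabilizer.mp hx
      exact mem_orbit_stabilizer.mpr ⟨h * t, by rw [mul_smul, ht, hh], mul_smul _ _ _⟩
    · rw [Set.ncard_image_of_injective _ (MulAction.injective h)]
  have hgα : g • α ≠ α := fun h => hmove (by rw [h, hkα])
  have htop : L = ⊤ := (IsPreprimitive.isCoatom_stabilizer_of_isPreprimitive G α).2 L
    (lt_of_le_of_ne hle fun h => hgα (mem_stabilizer_iff.mp (h ▸ (heq : g ∈ L))))
  obtain ⟨x, hx⟩ := exists_smul_eq G ω α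
  have hαΔ : α ∈ Δ := by
    rw [← (show x ∈ L from htop ▸ Subgroup.mem_top x : (x • ·) '' Δ = Δ)]
    exact ⟨ω, mem_orbit_self ω, hx⟩
  obtain ⟨t, ht, he⟩ := mem_orbit_stabilizer.mp hαΔ
  exact hω (smul_left_cancel t (he.trans ht.symm))

/-- **Manning's theorem**: the point stabiliser of an extremely primitive group is faithful on
each suborbit other than the trivial one. -/
theorem kernel_eq_bot (hprim : IsPreprimitive G Ω) (hep : OrbitPrimitive G Ω)
    {α ω : Ω} (hω : ω ≠ α) (hH : stabilizer G α ≠ ⊥) : kernel G α ω = ⊥ := by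
  haveI := hprim
  haveI : Nontrivial Ω := ⟨⟨ω, α, hω⟩⟩
  have hmax : ∀ b : Ω, IsCoatom (stabilizer G b) :=
    fun b => IsPreprimitive.isCoatom_stabilizer_of_isPreprimitive G b
  have hK : kernel G α ω = kernel G ω α :=
    le_antisymm (kernel_le_kernel hprim hep hω) (kernel_le_kernel hprim hep hω.symm)
  set K := kernel G α ω
  have hne : stabilizer G ω ≠ stabilizer G α := by
    intro he
    obtain ⟨g, hg⟩ := exists_smul_eq G α ω
    have hgn : g ∈ Subgroup.normalizer (stabilizer G α : Set G) := by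
      rw [Subgroup.mem_normalizer_iff]
      intro k
      have h1 : g * k * g⁻¹ ∈ stabilizer G ω ↔ k ∈ stabilizer G α := by
        rw [mem_stabilizer_iff, mem_stabilizer_iff, ← hg, ← mul_smul, inv_mul_cancel_right,
          mul_smul, smul_left_cancel_iff]
      rw [he] at h1
      exact h1.symm
    rcases (hmax α).le_iff.mp Subgroup.le_normalizer with h | h
    · have hnorm : (stabilizer G α).Normal := Subgroup.normalizer_eq_top_iff.mp h
      exact hH ((Subgroup.eq_bot_iff_forall _).mpr fun k hk =>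
        FaithfulSMul.eq_of_smul_eq_smul (α := Ω) fun b => by
          obtain ⟨x, rfl⟩ := exists_smul_eq G α b
          have h1 : (x⁻¹ * k * x) • α = α := by simpa using hnorm.conj_mem k hk x⁻¹
          rw [mul_smul, mul_smul, inv_smul_eq_iff] at h1
          rw [one_smul]; exact h1)
    · rw [h] at hgn
      exact hω (hg.symm.trans hgn)
  have htop : Subgroup.normalizer (K : Set G) = ⊤ := by
    rcases (hmax α).le_iff.mp (stabilizer_le_normalizer_kernel α ω) with h | h
    · exact h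
    · have h2 : stabilizer G ω ≤ stabilizer G α := by
        rw [← h, show Subgroup.normalizer (K : Set G) = Subgroup.normalizer (kernel G ω α : Set G) by rw [hK]]
        exact stabilizer_le_normalizer_kernel ω α
      rcases (hmax ω).le_iff.mp h2 with h3 | h3
      · exact absurd h3 (hmax α).1
      · exact absurd h3.symm hne
  have hnorm : K.Normal := Subgroup.normalizer_eq_top_iff.mp htop
  refine (Subgroup.eq_bot_iff_forall K).mpr fun k hk =>
    FaithfulSMul.eq_of_smul_eq_smul (α := Ω) fun b => ?_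
  obtain ⟨x, rfl⟩ := exists_smul_eq G α b
  have h1 := (mem_kernel.mp (hnorm.conj_mem k hk x⁻¹)).1
  rw [inv_inv, mul_smul, mul_smul, inv_smul_eq_iff] at h1
  rw [one_smul]; exact h1

/-- A non-trivial subgroup of `G_α` normalised by `G_α` has the same orbits as `G_α`. -/
theorem orbit_eq (hprim : IsPreprimitive G Ω) (hep : OrbitPrimitive G Ω) (α : Ω) (M : Subgroup G)
    (hM : M ≠ ⊥) (hle : M ≤ stabilizer G α)
    (hn : stabilizer G α ≤ Subgroup.normalizer (M : Set G)) (ω : Ω) :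
    orbit M ω = orbit (stabilizer G α) ω := by
  refine (fixes_or_transitive hep α ω M hle hn).elim (fun hfix => ?_) id
  by_cases hω : ω = α
  · subst hω
    ext x
    constructor
    · rintro ⟨m, rfl⟩; exact ⟨⟨m, hle m.2⟩, rfl⟩
    · rintro ⟨h, rfl⟩
      refine ⟨1, ?_⟩
      show (1 : G) • ω = (h : G) • ω
      rw [one_smul]; exact (h.2 : (h : G) • ω = ω).symm
  · have hMk : M ≤ kernel G α ω := fun m hm => mem_kernel.mpr ⟨hle hm, hfix m hm⟩
    rw [kernel_eq_bot hprim hep hω (fun h => hM (le_bot_iff.mp (h ▸ hle)))] at hMk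
    exact absurd (le_bot_iff.mp hMk) hM

end Cfsg.Agent.Lib.ExtPrim
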