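import Cfsg.Agent.Lib.Involution.BaerSuzuki
import Cfsg.Agent.Lib.Involution.Basic
import Cfsg.Agent.Lib.Frobenius.Kernel
import Cfsg.Agent.Lib.CharSimple.Basic

/-!
There is no non-abelian simple group on whose elements a group containing the inner automorphisms
acts with all non-trivial point stabilisers maximal. (The case of an odd order simple group is
settled by Thompson's normal `p`-complement theorem, taken here as a hypothesis.)
-/

set_option autoImplicit false
set_option linter.style.haveILetI false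

namespace Cfsg.Agent.Lib.ExtPrim

/-- A non-trivial Sylow `p`-subgroup, `p` odd, of a non-abelian simple group is not the normalizer
of all its non-trivial subgroups invariant under the automorphisms fixing it. -/
def NoLocalComplement : Prop :=
  ∀ (S : Type) [Group S] [Finite S] [IsSimpleGroup S], ¬ IsMulCommutative S →
    ∀ (p : ℕ) [Fact p.Prime], p ≠ 2 → ∀ P : Sylow p S, (P : Subgroup S) ≠ ⊥ →
      (∀ W : Subgroup S, W ≤ (P : Subgroup S) → W ≠ ⊥ →
        (∀ a : S ≃* S, (P : Subgroup S).map a.toMonoidHom = (P : Subgroup S) →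
          W.map a.toMonoidHom = W) →
        Subgroup.normalizer (W : Set S) ≤ (P : Subgroup S)) →
      False

open MulAction

theorem no_maximal_centralizers (hT : NoLocalComplement) {S : Type} [Group S] [Finite S]
    [IsSimpleGroup S] (hS : ¬ IsMulCommutative S) {H : Type*} [Group H] [Finite H] [MulAction H S]
    (hpow : ∀ (h : H) (y : S) (i : ℕ), h • y ^ i = (h • y) ^ i)
    (φ : S →* H) (hφi : Function.Injective φ) (hφn : φ.range.Normal)
    (hφ : ∀ s y : S, φ s • y = s * y * s⁻¹)
    (hmax : ∀ y : S, y ≠ 1 → IsCoatom (stabilizer H y)) : False := by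
  classical
  let C : S → Subgroup S := fun y => Subgroup.centralizer ({y} : Set S)
  have hCmem : ∀ {s y : S}, s ∈ C y ↔ s * y = y * s := fun {s y} =>
    Subgroup.mem_centralizer_singleton_iff
  have hCstab : ∀ {s y : S}, s ∈ C y ↔ φ s ∈ stabilizer H y := fun {s y} => by
    rw [mem_stabilizer_iff, hφ, hCmem, mul_inv_eq_iff_eq_mul]
  have hcyc : ∀ y : S, y ≠ 1 → ¬ (Subgroup.zpowers y).Normal := by
    intro y hy hn
    rcases hn.eq_bot_or_eq_top with h | h
    · exact hy (Subgroup.zpowers_eq_bot.mp h)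
    · refine hS (IsMulCommutative.of_comm fun a b => ?_)
      obtain ⟨i, rfl⟩ := Subgroup.mem_zpowers_iff.mp (h ▸ Subgroup.mem_top a)
      obtain ⟨j, rfl⟩ := Subgroup.mem_zpowers_iff.mp (h ▸ Subgroup.mem_top b)
      exact zpow_mul_comm y i j
  have hCtop : ∀ y : S, y ≠ 1 → C y ≠ ⊤ := by
    intro y hy h
    refine hy (Subgroup.mem_bot.mp (CharSimple.center_eq_bot hS ▸
      Subgroup.mem_center_iff.mpr fun s => ?_))
    exact hCmem.mp (h ▸ Subgroup.mem_top s)
  -- (a) an element normalising `⟨y⟩` centralises `y`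
  have ha : ∀ y s : S, y ≠ 1 → s * y * s⁻¹ ∈ Subgroup.zpowers y → s * y = y * s := by
    intro y s hy hs
    have hmem : ∀ (h : H), h • y ∈ Subgroup.zpowers y → ∀ z ∈ Subgroup.zpowers y,
        h • z ∈ Subgroup.zpowers y := by
      intro h hh z hz
      obtain ⟨i, rfl⟩ := mem_powers_iff_mem_zpowers.mpr hz
      show h • y ^ i ∈ _
      rw [hpow]; exact pow_mem hh i
    have hpw : ∀ (h : H), h • y ∈ Subgroup.zpowers y → ∀ j : ℕ, h ^ j • y ∈ Subgroup.zpowers y := by
      intro h hh j
      induction j with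
      | zero => rw [pow_zero, one_smul]; exact Subgroup.mem_zpowers y
      | succ j ih => rw [pow_succ', mul_smul]; exact hmem h hh _ ih
    let L : Subgroup H :=
      { carrier := {h | h • y ∈ Subgroup.zpowers y}
        one_mem' := by show (1 : H) • y ∈ Subgroup.zpowers y; rw [one_smul]; exact Subgroup.mem_zpowers y
        mul_mem' := fun {a b} (ha : a • y ∈ Subgroup.zpowers y) (hb : b • y ∈ Subgroup.zpowers y) => by
          show (a * b) • y ∈ Subgroup.zpowers y
          rw [mul_smul]; exact hmem a ha _ hb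
        inv_mem' := fun {a} (ha : a • y ∈ Subgroup.zpowers y) => by
          show a⁻¹ • y ∈ Subgroup.zpowers y
          obtain ⟨j, hj⟩ := mem_powers_iff_mem_zpowers.mpr
            (Subgroup.inv_mem _ (Subgroup.mem_zpowers a))
          rw [← (hj : a ^ j = a⁻¹)]; exact hpw a ha j }
    rcases (hmax y hy).le_iff.mp (show stabilizer H y ≤ L from fun h hh => by
        show h • y ∈ Subgroup.zpowers y
        rw [mem_stabilizer_iff.mp hh]; exact Subgroup.mem_zpowers y) with h | h
    · refine absurd ⟨fun z hz g => ?_⟩ (hcyc y hy)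
      have := hmem (φ g) (h ▸ Subgroup.mem_top (φ g) : φ g ∈ L) z hz
      rwa [hφ] at this
    · exact hCmem.mp (hCstab.mpr (h ▸ (show φ s ∈ L by show φ s • y ∈ Subgroup.zpowers y; rwa [hφ])))
  -- (b) there are no involutions
  have hodd : ∀ t : S, orderOf t ≠ 2 := by
    intro t ht
    haveI : Fact (Nat.Prime 2) := ⟨Nat.prime_two⟩
    have ht1 : t ≠ 1 := Involution.ne_one ht
    obtain ⟨g, hg⟩ : ∃ g : S, ¬ IsPGroup 2 (Subgroup.closure ({t, g * t * g⁻¹} : Set S)) := by
      by_contra h
      push Not at h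
      obtain ⟨N, hNn, hNp, htN⟩ := Involution.baer_suzuki_element t h
      rcases hNn.eq_bot_or_eq_top with he | he
      · exact ht1 (Subgroup.mem_bot.mp (he ▸ htN))
      · haveI : IsPGroup 2 S := fun x => by
          obtain ⟨j, hj⟩ := hNp ⟨x, he ▸ Subgroup.mem_top x⟩
          exact ⟨j, congrArg Subtype.val hj⟩
        exact (Subgroup.nontrivial_iff_ne_bot _).mp this.center_nontrivial (CharSimple.center_eq_bot hS)
    set u := g * t * g⁻¹ with hu
    have htt : t * t = 1 := Involution.mul_self_eq_one ht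
    have huu : u * u = 1 := by
      rw [hu, show g * t * g⁻¹ * (g * t * g⁻¹) = g * (t * t) * g⁻¹ by group, htt, mul_one, mul_inv_cancel]
    set y := t * u with hy
    have hy1 : y ≠ 1 := by
      intro h
      have hut : u = t := by
        rw [← inv_eq_of_mul_eq_one_right h, Involution.inv_eq_self htt]
      apply hg
      have : ({t, u} : Set S) = {t} := by rw [hut]; simp
      rw [this, ← Subgroup.zpowers_eq_closure]
      exact IsPGroup.of_card (n := 1) (by rw [Nat.card_zpowers, ht, pow_one])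
    have hconj : t * y * t⁻¹ = y⁻¹ := by
      have := Involution.conj_zpow_pair htt huu 1
      rwa [zpow_one] at this
    have hcom := ha y t hy1 (hconj ▸ Subgroup.inv_mem _ (Subgroup.mem_zpowers y))
    have hy2 : y * y = 1 := by
      rw [mul_eq_one_iff_eq_inv]
      rw [← hconj, hcom, mul_inv_cancel_right]
    apply hg
    refine fun z => ⟨2, Subtype.ext ?_⟩
    show (z : S) ^ 2 ^ 2 = 1
    obtain ⟨k, hk | hk⟩ := (Involution.mem_closure_pair_iff htt huu z).mp z.2
    all_goals
      have h4 : (2 : ℕ) ^ 2 = 4 := by norm_num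
      rw [hk, h4]
    · rw [← zpow_natCast, ← zpow_mul, show k * ((4 : ℕ) : ℤ) = ((2 : ℕ) : ℤ) * (2 * k) by push_cast; ring,
        zpow_mul, zpow_natCast, pow_two, ← hy, hy2, one_zpow]
    · have := Involution.zpow_mul_mul_self htt huu k
      rw [show (4 : ℕ) = 2 * 2 from rfl, pow_mul, show ((t * u) ^ k * t) ^ 2 = 1 by rw [pow_two]; exact this, one_pow]
  -- (c) stabilisers of powers
  have hc : ∀ (y : S) (i : ℕ), y ≠ 1 → y ^ i ≠ 1 → stabilizer H (y ^ i) = stabilizer H y := by
    intro y i hy hi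
    have hle : stabilizer H y ≤ stabilizer H (y ^ i) := fun h hh => by
      rw [mem_stabilizer_iff, hpow, mem_stabilizer_iff.mp hh]
    exact ((hmax y hy).le_iff.mp hle).resolve_left (hmax _ hi).1
  have hcC : ∀ (y : S) (i : ℕ), y ≠ 1 → y ^ i ≠ 1 → C (y ^ i) = C y := fun y i hy hi => by
    ext s; rw [hCstab, hCstab, hc y i hy hi]
  -- (f) commuting elements of coprime order
  have hcop : ∀ y w : S, y ≠ 1 → w ≠ 1 → y * w = w * y → (orderOf y).Coprime (orderOf w) → C y = C w := by
    intro y w hy hw hyw hco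
    have hy' : ∃ i, (y * w) ^ i = y := by
      obtain ⟨i, hi1, hi2⟩ := Nat.chineseRemainder hco 1 0
      refine ⟨i, ?_⟩
      rw [(show Commute y w from hyw).mul_pow, pow_eq_pow_iff_modEq.mpr hi1, pow_one,
        pow_eq_pow_iff_modEq.mpr hi2, pow_zero, mul_one]
    have hw' : ∃ i, (y * w) ^ i = w := by
      obtain ⟨i, hi1, hi2⟩ := Nat.chineseRemainder hco 0 1
      refine ⟨i, ?_⟩
      rw [(show Commute y w from hyw).mul_pow, pow_eq_pow_iff_modEq.mpr hi1, pow_zero,
        pow_eq_pow_iff_modEq.mpr hi2, pow_one, one_mul]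
    obtain ⟨i, hi⟩ := hy'
    obtain ⟨j, hj⟩ := hw'
    have hne : y * w ≠ 1 := fun h => hy (by rw [← hi, h, one_pow])
    exact ((congrArg C hi).symm.trans (hcC _ i hne fun h => hy (hi.symm.trans h))).trans
      ((congrArg C hj).symm.trans (hcC _ j hne fun h => hw (hj.symm.trans h))).symm
  -- (e) normalisers inside centralisers
  let e : S ≃* φ.range := MonoidHom.ofInjective hφi
  haveI := hφn
  let α : H → (S ≃* S) := fun h => e.trans ((MulAut.conjNormal h).trans e.symm)
  have hα : ∀ (h : H) (s : S), φ (α h s) = h * φ s * h⁻¹ := by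
    intro h s
    have h1 : (e (α h s) : H) = φ (α h s) := MonoidHom.ofInjective_apply hφi
    have h2 : (e s : H) = φ s := MonoidHom.ofInjective_apply hφi
    rw [← h1, ← h2]
    simp [α]
  have hαC : ∀ (y : S), ∀ h ∈ stabilizer H y, (C y).map (α h).toMonoidHom = C y := by
    intro y h hh
    ext s
    constructor
    · rintro ⟨x, hx, rfl⟩
      rw [hCstab]
      show φ (α h x) ∈ stabilizer H y
      rw [hα]
      exact Subgroup.mul_mem _ (Subgroup.mul_mem _ hh (hCstab.mp hx)) (Subgroup.inv_mem _ hh)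
    · intro hs
      refine ⟨(α h).symm s, ?_, (α h).apply_symm_apply s⟩
      rw [SetLike.mem_coe, hCstab]
      have h1 := hα h ((α h).symm s)
      rw [MulEquiv.apply_symm_apply] at h1
      rw [show φ ((α h).symm s) = h⁻¹ * φ s * h by rw [h1]; group]
      exact Subgroup.mul_mem _ (Subgroup.mul_mem _ (Subgroup.inv_mem _ hh) (hCstab.mp hs)) hh
  have he : ∀ (y : S) (W : Subgroup S), y ≠ 1 → W ≠ ⊥ → W ≠ ⊤ →
      (∀ h ∈ stabilizer H y, W.map (α h).toMonoidHom = W) →
      Subgroup.normalizer (W : Set S) ≤ C y := by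
    intro y W hy hW hW' hinv
    let L : Subgroup H := Subgroup.normalizer ((W.map φ : Subgroup H) : Set H)
    have hle : stabilizer H y ≤ L := by
      intro h hh
      refine Subgroup.mem_normalizer_iff.mpr fun x => ⟨?_, ?_⟩
      · rintro ⟨w, hw, rfl⟩
        exact ⟨α h w, (hinv h hh).le ⟨w, hw, rfl⟩, hα h w⟩
      · rintro ⟨w, hw, hwe⟩
        refine ⟨α h⁻¹ w, (hinv h⁻¹ (Subgroup.inv_mem _ hh)).le ⟨w, hw, rfl⟩, ?_⟩
        rw [hα, hwe]; group
    intro s hs
    rcases (hmax y hy).le_iff.mp hle with h | h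
    · exfalso
      have hn : W.Normal := by
        refine ⟨fun w hw g => ?_⟩
        have h1 := (Subgroup.mem_normalizer_iff.mp (h ▸ Subgroup.mem_top (φ g) : φ g ∈ L) (φ w)).mp
          ⟨w, hw, rfl⟩
        obtain ⟨w', hw', hwe⟩ := h1
        rw [← map_inv, ← map_mul, ← map_mul] at hwe
        rw [← hφi hwe]; exact hw'
      exact (hn.eq_bot_or_eq_top).elim hW hW'
    · rw [hCstab, ← h]
      refine Subgroup.mem_normalizer_iff.mpr fun x => ⟨?_, ?_⟩
      · rintro ⟨w, hw, rfl⟩
        exact ⟨s * w * s⁻¹, (Subgroup.mem_normalizer_iff.mp hs w).mp hw, by simp⟩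
      · rintro ⟨w, hw, hwe⟩
        refine ⟨s⁻¹ * w * s, (Subgroup.mem_normalizer_iff''.mp hs w).mp hw, ?_⟩
        rw [map_mul, map_mul, map_inv, hwe]; group
  have hCne : ∀ y : S, y ≠ 1 → C y ≠ ⊥ := fun y hy h =>
    hy (Subgroup.mem_bot.mp (h ▸ hCmem.mpr rfl))
  have hnorm : ∀ y : S, y ≠ 1 → Subgroup.normalizer (C y : Set S) = C y := fun y hy =>
    le_antisymm (he y (C y) hy (hCne y hy) (hCtop y hy) (hαC y)) Subgroup.le_normalizer
  -- (g) centralisers are abelian
  have habel : ∀ y : S, y ≠ 1 → IsMulCommutative (C y) := by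
    suffices hprime : ∀ y : S, (orderOf y).Prime → IsMulCommutative (C y) by
      intro y hy
      obtain ⟨p, hp, hpd⟩ := Nat.exists_prime_and_dvd (n := orderOf y) (by rwa [ne_eq, orderOf_eq_one_iff])
      obtain ⟨i, hi⟩ := hpd
      have h1 : orderOf (y ^ i) = p := by
        rw [orderOf_pow, hi, Nat.gcd_eq_right (dvd_mul_left i p)]
        exact Nat.mul_div_cancel p (Nat.pos_of_ne_zero (fun h0 => (orderOf_pos y).ne' (by rw [hi, h0, mul_zero])))
      have h2 : y ^ i ≠ 1 := fun h => hp.ne_one (by rw [← h1, h, orderOf_one])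
      rw [← hcC y i hy h2]
      exact hprime _ (h1 ▸ hp)
    intro y hyp
    haveI : Fact (orderOf y).Prime := ⟨hyp⟩
    set p := orderOf y with hp
    have hy : y ≠ 1 := fun h => hyp.ne_one (by rw [hp, h, orderOf_one])
    by_contra hnab
    have hppart : ∀ w ∈ C y, (orderOf w).Coprime p → w = 1 := by
      intro w hw hco
      by_contra hw1
      have hyw : C y = C w := hcop y w hy hw1 (hCmem.mp hw).symm hco.symm
      apply hnab
      have hcentral : ∀ v ∈ C y, ∀ n ∈ C y, ((orderOf v).Coprime p ∨ (orderOf v).Coprime (orderOf w)) →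
          v * n = n * v := by
        intro v hv n hn hv'
        by_cases hv1 : v = 1
        · rw [hv1, one_mul, mul_one]
        have hCv : C v = C y := by
          rcases hv' with h | h
          · exact (hcop y v hy hv1 (hCmem.mp hv).symm h.symm).symm
          · exact (hcop w v hw1 hv1 (hCmem.mp (hyw ▸ hv)).symm h.symm).symm.trans hyw.symm
        exact (hCmem.mp (hCv ▸ hn)).symm
      refine IsMulCommutative.of_comm fun ⟨v, hv⟩ ⟨n, hn⟩ => Subtype.ext ?_
      show v * n = n * v
      obtain ⟨a, ha1, ha2⟩ := Nat.exists_eq_pow_mul_and_not_dvd (orderOf_pos v).ne' p hyp.ne_one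
      have hab : (p ^ a).Coprime ha1 := Nat.Coprime.pow_left a ((hyp.coprime_iff_not_dvd).mpr ha2.1)
      obtain ⟨i, hi1, hi2⟩ := Nat.chineseRemainder hab 1 0
      obtain ⟨j, hj1, hj2⟩ := Nat.chineseRemainder hab 0 1
      have hsplit : v ^ i * v ^ j = v := by
        rw [← pow_add]
        conv_rhs => rw [← pow_one v]
        rw [pow_eq_pow_iff_modEq, ha2.2]
        refine (Nat.modEq_and_modEq_iff_modEq_mul hab).mp ⟨?_, ?_⟩
        · simpa using hi1.add hj1
        · simpa using hi2.add hj2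
      have c1 : Commute (v ^ i) n := by
        refine hcentral _ ((C y).pow_mem hv i) n hn (Or.inr ?_)
        refine Nat.Coprime.coprime_dvd_left (orderOf_dvd_of_pow_eq_one ?_)
          (Nat.Coprime.pow_left a hco.symm)
        rw [← pow_mul, ← orderOf_dvd_iff_pow_eq_one, ha2.2, mul_comm (p ^ a) ha1]
        exact Nat.mul_dvd_mul_right (Nat.modEq_zero_iff_dvd.mp hi2) _
      have c2 : Commute (v ^ j) n := by
        refine hcentral _ ((C y).pow_mem hv j) n hn (Or.inl ?_)
        refine Nat.Coprime.coprime_dvd_left (orderOf_dvd_of_pow_eq_one ?_)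
          ((hyp.coprime_iff_not_dvd).mpr ha2.1).symm
        rw [← pow_mul, ← orderOf_dvd_iff_pow_eq_one, ha2.2]
        exact Nat.mul_dvd_mul_right (Nat.modEq_zero_iff_dvd.mp hj1) _
      have := c1.mul_left c2
      rw [hsplit] at this
      exact this.eq
    have hPgroup : IsPGroup p (C y) := by
      intro v
      obtain ⟨a, m, hm, hvm⟩ := Nat.exists_eq_pow_mul_and_not_dvd (orderOf_pos (v : S)).ne' p hyp.ne_one
      refine ⟨a, Subtype.ext ?_⟩
      show (v : S) ^ p ^ a = 1
      refine hppart _ ((C y).pow_mem v.2 _) ?_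
      refine Nat.Coprime.coprime_dvd_left (orderOf_dvd_of_pow_eq_one ?_)
        ((hyp.coprime_iff_not_dvd).mpr hm).symm
      rw [← pow_mul, ← hvm, pow_orderOf_eq_one]
    obtain ⟨P, hP⟩ := hPgroup.exists_le_sylow
    have hPeq : (P : Subgroup S) = C y := by
      by_contra hne
      haveI : Group.IsNilpotent (P : Subgroup S) := P.isPGroup'.isNilpotent
      have hlt : (C y).subgroupOf (P : Subgroup S) < ⊤ := by
        rw [lt_top_iff_ne_top, ne_eq, Subgroup.subgroupOf_eq_top]
        exact fun h => hne (le_antisymm h hP)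
      obtain ⟨x, hx, hx'⟩ := SetLike.exists_of_lt (Group.normalizerCondition_of_isNilpotent _ hlt)
      apply hx'
      show (x : S) ∈ C y
      rw [← hnorm y hy]
      refine Subgroup.mem_normalizer_iff.mpr fun z => ?_
      constructor
      · intro hz
        exact (Subgroup.mem_normalizer_iff.mp hx ⟨z, hP hz⟩).mp hz
      · intro hz
        have hzP : z ∈ (P : Subgroup S) := by
          have h1 := Subgroup.mul_mem _ (Subgroup.mul_mem _ (Subgroup.inv_mem _ x.2) (hP hz)) x.2
          rwa [show (x : S)⁻¹ * ((x : S) * z * (x : S)⁻¹) * (x : S) = z by group] at h1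
        exact (Subgroup.mem_normalizer_iff.mp hx ⟨z, hzP⟩).mpr hz
    refine hT S hS p ?_ P (hPeq ▸ hCne y hy) fun W hWP hW hWinv => ?_
    · intro h2
      exact hodd y (hp.symm.trans h2)
    · rw [hPeq] at hWP ⊢
      refine he y W hy hW (fun h => hCtop y hy (top_le_iff.mp (h ▸ hWP))) fun h hh => hWinv _ ?_
      rw [hPeq]; exact hαC y h hh
  -- (h) a centraliser is a Frobenius complement
  obtain ⟨y, hy⟩ := exists_ne (1 : S)
  have hfrob : Cfsg.IsFrobeniusComplement (C y) := by
    refine ⟨hCne y hy, hCtop y hy, fun g hg => ?_⟩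
    by_contra hne
    obtain ⟨z, hz, hz1⟩ := (Subgroup.bot_or_exists_ne_one _).resolve_left hne
    obtain ⟨hzy, hzg⟩ := Subgroup.mem_inf.mp hz
    haveI := habel y hy
    haveI := habel z hz1
    have hle : C y ≤ C z := fun a ha' =>
      hCmem.mpr (congrArg Subtype.val (mul_comm' (⟨a, ha'⟩ : C y) ⟨z, hzy⟩))
    have hle' : C z ≤ C y := fun a ha' =>
      hCmem.mpr (congrArg Subtype.val (mul_comm' (⟨a, ha'⟩ : C z) ⟨y, hle (hCmem.mpr rfl)⟩))
    have hCyz : C y = C z := le_antisymm hle hle'
    obtain ⟨w, hw, hwe⟩ := hzg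
    change g * w * g⁻¹ = z at hwe
    apply hg
    rw [← hnorm y hy]
    -- the conjugate of `y` commutes with `z`
    have hgy : g * y * g⁻¹ ∈ C y := by
      rw [hCyz, hCmem, ← hwe]
      have hc1 : y * w = w * y := (hCmem.mp hw).symm
      calc g * y * g⁻¹ * (g * w * g⁻¹) = g * (y * w) * g⁻¹ := by group
        _ = g * w * g⁻¹ * (g * y * g⁻¹) := by rw [hc1]; group
    have hgy1 : g * y * g⁻¹ ≠ 1 := fun h => hy (conj_eq_one_iff.mp h)
    haveI := habel _ hgy1
    have hCg : C (g * y * g⁻¹) = C y := le_antisymm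
      (fun a ha' => hCmem.mpr (congrArg Subtype.val (mul_comm' (⟨a, ha'⟩ : C (g * y * g⁻¹))
        ⟨y, hCmem.mpr (hCmem.mp hgy).symm⟩)))
      (fun a ha' => hCmem.mpr (congrArg Subtype.val (mul_comm' (⟨a, ha'⟩ : C y) ⟨_, hgy⟩)))
    refine Subgroup.mem_normalizer_iff.mpr fun a => ?_
    rw [show (g * a * g⁻¹ ∈ C y) ↔ (g * a * g⁻¹ ∈ C (g * y * g⁻¹)) by rw [hCg], hCmem, hCmem,
      show g * a * g⁻¹ * (g * y * g⁻¹) = g * (a * y) * g⁻¹ by group,
      show g * y * g⁻¹ * (g * a * g⁻¹) = g * (y * a) * g⁻¹ by group]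
    simp
  obtain ⟨K, -, hKn, hKc⟩ := Frobenius.exists_kernel hfrob
  rcases hKn.eq_bot_or_eq_top with h | h
  · exact hCtop y hy (Subgroup.isComplement'_bot_left.mp (h ▸ hKc))
  · exact hCne y hy (Subgroup.isComplement'_top_left.mp (h ▸ hKc))

end Cfsg.Agent.Lib.ExtPrim
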