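import Cfsg.Agent.Lib.ExtPrim.Structure

/-!
Extremely primitive groups: a non-regular socle is simple.
-/

set_option autoImplicit false
set_option linter.style.haveILetI false
set_option linter.unusedSectionVars false

namespace Cfsg.Agent.Lib.ExtPrim

open MulAction

variable {G : Type*} [Group G] [Finite G] {Ω : Type*} [MulAction G Ω] [FaithfulSMul G Ω]
  {N : Subgroup G} {S : Type} [Group S] [IsSimpleGroup S] [Finite S] {k : ℕ}
  (e : N ≃* (Fin k → S)) (i : Fin k)

include e i in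
theorem no_product_socle (hT : NoLocalComplement) (hprim : IsPreprimitive G Ω)
    (hep : OrbitPrimitive G Ω) [hNn : N.Normal] [IsPretransitive N Ω]
    (hmin : ∀ M : Subgroup G, M.Normal → M ≤ N → M = ⊥ ∨ M = N) (hS : ¬ IsMulCommutative S)
    (hk : 2 ≤ k) (α : Ω) (hM : N ⊓ stabilizer G α ≠ ⊥) : False := by
  classical
  haveI := hprim
  set H := stabilizer G α with hHdef
  set M := N ⊓ H with hMdef
  have hMn : H ≤ Subgroup.normalizer (M : Set G) := by
    intro g hg
    refine Subgroup.mem_normalizer_iff.mpr fun x => ⟨fun hx => ?_, fun hx => ?_⟩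
    · exact ⟨hNn.conj_mem x hx.1 g, H.mul_mem (H.mul_mem hg hx.2) (H.inv_mem hg)⟩
    · refine ⟨?_, ?_⟩
      · simpa [mul_assoc] using hNn.conj_mem _ hx.1 g⁻¹
      · simpa [mul_assoc] using H.mul_mem (H.mul_mem (H.inv_mem hg) hx.2) hg
  have horb : ∀ (h : H) (n : G), ∃ m ∈ M, m • n • α = (h : G) • n • α := fun h n =>
    mem_orbit_subgroup.mp (by
      rw [orbit_eq hprim hep α M hM inf_le_right hMn (n • α)]
      exact ⟨h, rfl⟩)
  have hact : ∀ {m : G}, m ∈ H → ∀ n : G, m • n • α = (m * n * m⁻¹) • α := fun {m} hm n => by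
    rw [mul_smul, mul_smul, show m⁻¹ • α = α from H.inv_mem hm]
  have hrel : ∀ {a b : G}, a ∈ N → b ∈ N → a • α = b • α → b⁻¹ * a ∈ M := fun {a b} ha hb hab =>
    ⟨N.mul_mem (N.inv_mem hb) ha, show (b⁻¹ * a) • α = α by rw [mul_smul, hab, inv_smul_smul]⟩
  let ρ : M →* S := (proj e i).comp (Subgroup.inclusion inf_le_left)
  by_cases hR : ρ.range = ⊤
  swap
  · -- a proper projection: `H` would normalise the factor
    obtain ⟨t, -, ht⟩ := SetLike.exists_of_lt (lt_top_iff_ne_top.mpr hR)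
    refine factorStab_ne_top e i hmin hk α (eq_top_iff.mpr fun h _ => ?_)
    rw [mem_factorStab]
    refine (conj_emb_cases e i (h : G)).resolve_right fun hcom => ht ?_
    obtain ⟨m, hm, he⟩ := horb h (emb e i t)
    rw [hact hm.2, hact h.2] at he
    have ha : m * emb e i t * m⁻¹ ∈ N := hNn.conj_mem _ (emb_mem e i t) m
    have hb : (h : G) * emb e i t * (h : G)⁻¹ ∈ N := hNn.conj_mem _ (emb_mem e i t) _
    have hz := hrel hb ha he.symm
    have h1 : proj e i ⟨_, hb⟩ = 1 := eq_one_of_commute_emb e i hS hb fun r => hcom t r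
    have h2 : proj e i ⟨_, ha⟩ = ρ ⟨m, hm⟩ * t * (ρ ⟨m, hm⟩)⁻¹ := by
      have h3 := conj_emb e i hm.1 t
      rw [show (⟨_, ha⟩ : N) = ⟨emb e i (proj e i ⟨m, hm.1⟩ * t * (proj e i ⟨m, hm.1⟩)⁻¹), emb_mem e i _⟩
        from Subtype.ext h3, proj_emb]
      rfl
    have h3 : ρ ⟨_, hz⟩ = (ρ ⟨m, hm⟩ * t * (ρ ⟨m, hm⟩)⁻¹)⁻¹ := by
      show proj e i ((⟨_, ha⟩ : N)⁻¹ * ⟨_, hb⟩) = _
      rw [map_mul, map_inv, h1, h2, mul_one]
    refine ⟨⟨m, hm⟩⁻¹ * ⟨_, hz⟩⁻¹ * ⟨m, hm⟩, ?_⟩
    rw [map_mul, map_mul, map_inv, map_inv, h3]; group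
  -- the projection is onto
  have hsurj : Function.Surjective ρ := MonoidHom.range_eq_top.mp hR
  let A : Subgroup S := H.comap (emb e i)
  have hA : A = ⊥ := by
    have hn : A.Normal := by
      refine ⟨fun s hs r => ?_⟩
      obtain ⟨m, rfl⟩ := hsurj r
      show emb e i _ ∈ H
      have h3 := conj_emb e i m.2.1 s
      rw [show emb e i (ρ m * s * (ρ m)⁻¹) = (m : G) * emb e i s * (m : G)⁻¹ from h3.symm]
      exact H.mul_mem (H.mul_mem m.2.2 hs) (H.inv_mem m.2.2)
    refine (hn.eq_bot_or_eq_top).resolve_right fun h => ?_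
    obtain ⟨s, hs⟩ := exists_ne (1 : S)
    refine hs (emb_injective e i ?_)
    rw [map_one]
    refine FaithfulSMul.eq_of_smul_eq_smul (α := Ω) fun b => ?_
    obtain ⟨n, hn', rfl⟩ := Perm.exists_mem_smul_eq N α b
    have h3 := conj_emb e i (N.inv_mem hn') s
    have h4 : emb e i (proj e i ⟨n⁻¹, N.inv_mem hn'⟩ * s * (proj e i ⟨n⁻¹, N.inv_mem hn'⟩)⁻¹) ∈ H :=
      (h ▸ Subgroup.mem_top _ : proj e i ⟨n⁻¹, N.inv_mem hn'⟩ * s * (proj e i ⟨n⁻¹, N.inv_mem hn'⟩)⁻¹ ∈ A)
    rw [← h3, inv_inv, hHdef, mem_stabilizer_iff, mul_smul, mul_smul, inv_smul_eq_iff] at h4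
    rw [one_smul]; exact h4
  have hinj : ∀ a b : S, emb e i a • α = emb e i b • α → a = b := by
    intro a b hab
    have h1 : b⁻¹ * a ∈ A := by
      show emb e i (b⁻¹ * a) ∈ H
      rw [map_mul, map_inv]
      exact (hrel (emb_mem e i a) (emb_mem e i b) hab).2
    rw [hA, Subgroup.mem_bot] at h1
    exact (inv_mul_eq_one.mp h1).symm
  have hMy : ∀ (m : M) (y : S), (m : G) • emb e i y • α = emb e i (ρ m * y * (ρ m)⁻¹) • α := by
    intro m y
    rw [hact m.2.2, conj_emb e i m.2.1 y]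
    rfl
  have hex : ∀ (h : H) (y : S), ∃ y' : S, (h : G) • emb e i y • α = emb e i y' • α := by
    intro h y
    obtain ⟨m, hm, he⟩ := horb h (emb e i y)
    exact ⟨_, he.symm.trans (hMy ⟨m, hm⟩ y)⟩
  choose act hact' using hex
  letI : MulAction H S :=
    { smul := act
      one_smul := fun y => hinj _ _ (by
        show emb e i (act 1 y) • α = emb e i y • α
        rw [← hact', Subgroup.coe_one, one_smul])
      mul_smul := fun a b y => hinj _ _ (by
        show emb e i (act (a * b) y) • α = emb e i (act a (act b y)) • α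
        rw [← hact', ← hact', ← hact', Subgroup.coe_mul, mul_smul]) }
  have hsmul : ∀ (h : H) (y : S), (h : G) • emb e i y • α = emb e i (h • y) • α := hact'
  have hMsmul : ∀ (m : M) (y : S), (⟨(m : G), m.2.2⟩ : H) • y = ρ m * y * (ρ m)⁻¹ := fun m y =>
    hinj _ _ ((hsmul _ y).symm.trans (hMy m y))
  -- the kernel of `ρ` is trivial, by Manning's theorem
  have hρ : Function.Injective ρ := by
    refine (injective_iff_map_eq_one ρ).mpr fun m hm => ?_
    obtain ⟨s, hs⟩ := exists_ne (1 : S)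
    have hne : emb e i s • α ≠ α := fun h => hs (hinj s 1 (by rw [map_one, one_smul]; exact h))
    have hHne : stabilizer G α ≠ ⊥ := fun h => hM (le_bot_iff.mp (h ▸ inf_le_right))
    have hk' : (m : G) ∈ kernel G α (emb e i s • α) := by
      refine mem_kernel.mpr ⟨m.2.2, fun x hx => ?_⟩
      obtain ⟨g, hg, rfl⟩ := mem_orbit_stabilizer.mp hx
      rw [show g • emb e i s • α = emb e i ((⟨g, hg⟩ : H) • s) • α from hsmul ⟨g, hg⟩ s, hMy, hm]
      group
    rw [kernel_eq_bot hprim hep hne hHne, Subgroup.mem_bot] at hk'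
    exact Subtype.ext hk'
  let σ : S ≃* M := (MulEquiv.ofBijective ρ ⟨hρ, hsurj⟩).symm
  let φ : S →* H := (Subgroup.inclusion inf_le_right).comp σ.toMonoidHom
  refine no_maximal_centralizers hT hS (H := H) ?_ φ ?_ ?_ ?_ ?_
  · intro h y j
    apply hinj
    rw [← hsmul]
    set u := (h : G) * emb e i y * (h : G)⁻¹ with hu
    set x' := emb e i (h • y) with hx'
    have huN : u ∈ N := hNn.conj_mem _ (emb_mem e i y) _
    have hux : x'⁻¹ * u ∈ M := hrel huN (emb_mem e i (h • y)) (by rw [← hact h.2, hsmul])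
    have hcomm : Commute u x' := by
      rcases conj_emb_cases e i (h : G) with hc | hc
      · obtain ⟨s', hs'⟩ := hc y
        have h1 : s' = h • y := hinj _ _ (by rw [← hs', ← hact h.2, hsmul])
        rw [hu, hs', h1]
      · exact hc y (h • y)
    have h5 : u = x' * (x'⁻¹ * u) := by rw [mul_inv_cancel_left]
    have hc2 : Commute x' (x'⁻¹ * u) :=
      ((Commute.refl x').inv_right).mul_right hcomm.symm
    rw [hact h.2, map_pow, ← conj_pow, ← hu, h5, hc2.mul_pow, mul_smul, map_pow, ← hx']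
    have h6 : (x'⁻¹ * u) ^ j • α = α := H.pow_mem hux.2 j
    rw [h6]
  · exact fun a b hab => σ.injective (Subgroup.inclusion_injective (inf_le_right : N ⊓ H ≤ H) hab)
  · refine ⟨?_⟩
    rintro _ ⟨s, rfl⟩ g
    have hmem : (g : G) * (σ s : G) * (g : G)⁻¹ ∈ M :=
      (Subgroup.mem_normalizer_iff.mp (hMn g.2) _).mp (σ s).2
    refine ⟨ρ ⟨_, hmem⟩, Subtype.ext ?_⟩
    show ((σ (ρ ⟨_, hmem⟩) : M) : G) = _
    rw [show σ (ρ ⟨_, hmem⟩) = ⟨_, hmem⟩ from
      (MulEquiv.ofBijective ρ ⟨hρ, hsurj⟩).symm_apply_apply _]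
    rfl
  · intro s y
    show (⟨((σ s : M) : G), (σ s).2.2⟩ : H) • y = _
    rw [hMsmul, show ρ (σ s) = s from (MulEquiv.ofBijective ρ ⟨hρ, hsurj⟩).apply_symm_apply s]
  · intro y hy
    have hne : emb e i y • α ≠ α := fun h => hy (hinj y 1 (by rw [map_one, one_smul]; exact h))
    haveI := hep α (emb e i y • α)
    let ω₀ : orbit H (emb e i y • α) := ⟨_, mem_orbit_self _⟩
    have hst : stabilizer H y = stabilizer H ω₀ := by
      ext g
      rw [mem_stabilizer_iff, mem_stabilizer_iff, Subtype.ext_iff]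
      show g • y = y ↔ (g : G) • emb e i y • α = emb e i y • α
      rw [hsmul]
      exact ⟨fun h => by rw [h], fun h => hinj _ _ h⟩
    haveI : Nontrivial (orbit H (emb e i y • α)) := by
      obtain ⟨t, ht⟩ : ∃ t : S, t * y ≠ y * t := by
        by_contra h
        push Not at h
        exact hy (Subgroup.mem_bot.mp (CharSimple.center_eq_bot hS ▸ Subgroup.mem_center_iff.mpr h))
      let g : H := φ t
      refine ⟨⟨ω₀, g • ω₀, fun he => ht ?_⟩⟩
      have h1 : (g : G) • emb e i y • α = emb e i y • α := (congrArg Subtype.val he).symm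
      rw [show (g : G) = ((σ t : M) : G) from rfl, hMy,
        show ρ (σ t) = t from (MulEquiv.ofBijective ρ ⟨hρ, hsurj⟩).apply_symm_apply t] at h1
      exact mul_inv_eq_iff_eq_mul.mp (hinj _ _ h1)
    rw [hst]
    exact IsPreprimitive.isCoatom_stabilizer_of_isPreprimitive H ω₀

end Cfsg.Agent.Lib.ExtPrim
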