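import Mathlib

/-!
A fixed-point-free abelian group of automorphisms acting irreducibly on a finite abelian group
generates a finite field; automorphisms normalising it act by field automorphisms.
-/

set_option autoImplicit false
set_option linter.style.haveILetI false

namespace Cfsg.Agent.Lib.ExtPrim

/-- Let `c` be an action of `H` on the finite abelian `p`-group `V`, `T ≤ H` abelian of prime
exponent `q`, self-centralising normal, fixed-point-free and irreducible on `V`. Then `#T = q`,
`ord_q(p) = d` and `H/T` is cyclic of order dividing `d`. -/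
theorem semilinear_one_dim {V : Type*} [AddCommGroup V] [Finite V] [Nontrivial V]
    {H : Type*} [Group H] [Finite H] (c : H →* AddMonoid.End V) {p d q : ℕ} [hp : Fact p.Prime]
    (hq : q.Prime) (hcard : Nat.card V = p ^ d) (T : Subgroup H) [T.Normal] [IsMulCommutative T]
    (hT : T ≠ ⊥) (hTq : ∀ t ∈ T, t ^ q = 1)
    (hfpf : ∀ t ∈ T, ∀ v : V, c t v = v → t = 1 ∨ v = 0)
    (hirr : ∀ W : AddSubgroup V, (∀ t ∈ T, ∀ w ∈ W, c t w ∈ W) → W = ⊥ ∨ W = ⊤)
    (hcent : ∀ h : H, (∀ t ∈ T, h * t = t * h) → h ∈ T) :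
    Nat.card T = q ∧ q ∣ p ^ d - 1 ∧ (∀ i : ℕ, 0 < i → i < d → ¬ q ∣ p ^ i - 1) ∧
      (∃ h : H, (⊤ : Subgroup H) = T ⊔ Subgroup.zpowers h) ∧ Nat.card H ∣ q * d := by
  classical
  haveI : Finite (AddMonoid.End V) := Finite.of_injective (fun f => (f : V → V)) DFunLike.coe_injective
  let gens : Set (AddMonoid.End V) := c '' T
  have hcomm : ∀ x ∈ gens, ∀ y ∈ gens, x * y = y * x := by
    rintro _ ⟨s, hs, rfl⟩ _ ⟨t, ht, rfl⟩
    rw [← map_mul, ← map_mul]
    exact congrArg c (congrArg T.subtype (mul_comm' (⟨s, hs⟩ : T) ⟨t, ht⟩))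
  let E := Subring.closure gens
  have hEc : ∀ x y : E, x * y = y * x := by
    haveI : IsMulCommutative (Subring.closure gens) := Subring.isMulCommutative_closure hcomm
    exact fun x y => mul_comm' x y
  letI : CommRing E := { (inferInstance : Ring E) with mul_comm := hEc }
  let ζ : T →* E :=
    { toFun := fun t => ⟨c t, Subring.subset_closure ⟨t, t.2, rfl⟩⟩
      map_one' := Subtype.ext (map_one c)
      map_mul' := fun a b => Subtype.ext (map_mul c _ _) }
  -- non-zero elements are injective
  have hker : ∀ e : E, e ≠ 0 → ∀ v : V, (e : AddMonoid.End V) v = 0 → v = 0 := by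
    intro e he v hv
    let W : AddSubgroup V := (e : AddMonoid.End V).ker
    rcases hirr W fun t ht w hw => by
        show (e : AddMonoid.End V) (c t w) = 0
        have h1 := congrArg (fun z : E => (z : AddMonoid.End V)) (hEc e (ζ ⟨t, ht⟩))
        have h2 := DFunLike.congr_fun h1 w
        calc (e : AddMonoid.End V) (c t w) = c t ((e : AddMonoid.End V) w) := h2
          _ = 0 := by rw [show (e : AddMonoid.End V) w = 0 from hw, map_zero] with h | h
    · exact AddSubgroup.mem_bot.mp (h ▸ (hv : v ∈ W))
    · exact absurd (Subtype.ext (AddMonoidHom.ext fun w => by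
        have h2 : w ∈ W := h ▸ AddSubgroup.mem_top w
        exact h2)) he
  obtain ⟨v₀, hv₀⟩ := exists_ne (0 : V)
  haveI : Nontrivial E := ⟨⟨0, 1, fun h => hv₀ (DFunLike.congr_fun (congrArg Subtype.val h) v₀).symm⟩⟩
  haveI : NoZeroDivisors E := ⟨fun {a b} hab => by
    by_contra hne
    push Not at hne
    exact hne.2 (Subtype.ext (AddMonoidHom.ext fun w =>
      hker a hne.1 _ (DFunLike.congr_fun (congrArg Subtype.val hab) w)))⟩
  haveI : IsDomain E := NoZeroDivisors.to_isDomain E
  haveI : Fintype E := Fintype.ofFinite E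
  -- the field has the order of `V`
  let ev : E →+ V :=
    { toFun := fun e => (e : AddMonoid.End V) v₀
      map_zero' := rfl
      map_add' := fun _ _ => rfl }
  have hev : Function.Bijective ev := by
    refine ⟨(injective_iff_map_eq_zero ev).mpr fun e he => ?_, ?_⟩
    · by_contra h
      exact hv₀ (hker e h v₀ he)
    · rw [← AddMonoidHom.range_eq_top]
      refine (hirr ev.range fun t ht w ⟨e, he⟩ => ⟨ζ ⟨t, ht⟩ * e, ?_⟩).resolve_left ?_
      · rw [← he]; rfl
      · intro h
        exact hv₀ (AddSubgroup.mem_bot.mp (h ▸ ⟨1, rfl⟩))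
  have hcardE : Nat.card E = p ^ d := by rw [Nat.card_congr (Equiv.ofBijective _ hev), hcard]
  have hd : 1 ≤ d := by
    have := Finite.one_lt_card (α := V)
    rcases Nat.eq_zero_or_pos d with h | h
    · rw [hcard, h, pow_zero] at this; omega
    · exact h
  have hζ : Function.Injective ζ := (injective_iff_map_eq_one ζ).mpr fun t ht => by
    have h1 : c t v₀ = v₀ := DFunLike.congr_fun (congrArg Subtype.val ht) v₀
    exact Subtype.ext ((hfpf t t.2 v₀ h1).resolve_right hv₀)
  haveI : IsCyclic T := isCyclic_of_subgroup_isDomain ζ hζ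
  haveI : Nontrivial T := (Subgroup.nontrivial_iff_ne_bot T).mpr hT
  obtain ⟨g, hg⟩ := IsCyclic.exists_ofOrder_eq_natCard (α := T)
  have hTcard : Nat.card T = q := by
    have h1 : orderOf g ∣ q := orderOf_dvd_of_pow_eq_one (Subtype.ext (hTq g g.2))
    rw [hg] at h1
    exact ((Nat.dvd_prime hq).mp h1).resolve_left Finite.one_lt_card.ne'
  have hζord : orderOf (ζ g) = q := by rw [orderOf_injective ζ hζ, hg, hTcard]
  letI : Field E := Fintype.fieldOfDomain E
  haveI : CharP E p := charP_of_card_eq_prime_pow (f := d) (by rw [← Nat.card_eq_fintype_card, hcardE])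
  refine ⟨hTcard, ?_, ?_, ?_⟩
  · rw [← hζord, ← hcardE, Nat.card_eq_fintype_card]
    refine orderOf_dvd_of_pow_eq_one (FiniteField.pow_card_sub_one_eq_one _ ?_)
    intro h0
    have := pow_orderOf_eq_one (ζ g)
    rw [hζord, h0, zero_pow hq.ne_zero] at this
    exact zero_ne_one this
  · intro i hi hid hdiv
    let K : Subring E :=
      { carrier := {e | e ^ p ^ i = e}
        mul_mem' := fun {a b} (ha : a ^ p ^ i = a) (hb : b ^ p ^ i = b) => by
          show (a * b) ^ p ^ i = a * b
          rw [mul_pow, ha, hb]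
        one_mem' := one_pow _
        add_mem' := fun {a b} (ha : a ^ p ^ i = a) (hb : b ^ p ^ i = b) => by
          show (a + b) ^ p ^ i = a + b
          rw [add_pow_char_pow, ha, hb]
        zero_mem' := zero_pow (pow_ne_zero _ hp.out.ne_zero)
        neg_mem' := fun {a} (ha : a ^ p ^ i = a) => by
          have h1 := add_pow_char_pow (R := E) a (-a) p i
          rw [add_neg_cancel, zero_pow (pow_ne_zero _ hp.out.ne_zero), ha] at h1
          exact (eq_neg_of_add_eq_zero_right h1.symm) }
    have htop : ∀ e : E, e ∈ K := by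
      intro e
      have hsub : E ≤ K.map E.subtype := by
        refine Subring.closure_le.mpr ?_
        rintro _ ⟨t, ht, rfl⟩
        refine ⟨ζ ⟨t, ht⟩, ?_, rfl⟩
        show ζ ⟨t, ht⟩ ^ p ^ i = ζ ⟨t, ht⟩
        rw [← map_pow]
        congr 1
        obtain ⟨k, hk⟩ := hdiv
        have hpi : p ^ i = q * k + 1 := by
          have := Nat.one_le_pow i p hp.out.pos; omega
        rw [hpi, pow_succ, pow_mul, show (⟨t, ht⟩ : T) ^ q = 1 from Subtype.ext (hTq t ht), one_pow, one_mul]
      obtain ⟨e', he', hee⟩ := hsub e.2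
      exact Subtype.ext hee ▸ he'
    let P : Polynomial E := Polynomial.X ^ p ^ i - Polynomial.X
    have hlt : 1 < p ^ i := Nat.one_lt_pow hi.ne' hp.out.one_lt
    have hP : P ≠ 0 := FiniteField.X_pow_card_sub_X_ne_zero E hlt
    have hdeg : P.natDegree = p ^ i := FiniteField.X_pow_card_sub_X_natDegree_eq E hlt
    have := Polynomial.card_le_degree_of_subset_roots (p := P) (Z := Finset.univ) (fun e _ => by
      rw [Polynomial.mem_roots hP]
      simp [P, Polynomial.IsRoot, show e ^ p ^ i = e from htop e])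
    rw [hdeg, Finset.card_univ, ← Nat.card_eq_fintype_card, hcardE] at this
    exact absurd this (not_le.mpr (Nat.pow_lt_pow_right hp.out.one_lt hid))
  · letI : Algebra (ZMod p) E := ZMod.algebra E p
    have hE : ∀ h : H, ∀ e ∈ E, c h * e * c h⁻¹ ∈ E := by
      intro h e he
      induction he using Subring.closure_induction with
      | mem x hx =>
        obtain ⟨t, ht, rfl⟩ := hx
        rw [← map_mul, ← map_mul]
        exact Subring.subset_closure ⟨_, (inferInstance : T.Normal).conj_mem t ht h, rfl⟩
      | zero => simp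
      | one => rw [mul_one, ← map_mul, mul_inv_cancel, map_one]; exact E.one_mem
      | add x y _ _ hx hy => rw [mul_add, add_mul]; exact E.add_mem hx hy
      | neg x _ hx => rw [mul_neg, neg_mul]; exact E.neg_mem hx
      | mul x y _ _ hx hy =>
        have h1 : c h * (x * y) * c h⁻¹ = (c h * x * c h⁻¹) * (c h * y * c h⁻¹) := by
          have h2 : c h⁻¹ * c h = 1 := by rw [← map_mul, inv_mul_cancel, map_one]
          simp only [mul_assoc]
          rw [← mul_assoc (c h⁻¹) (c h), h2, one_mul]
        rw [h1]; exact E.mul_mem hx hy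
    have hci : ∀ h : H, c h⁻¹ * c h = 1 := fun h => by rw [← map_mul, inv_mul_cancel, map_one]
    have hci' : ∀ h : H, c h * c h⁻¹ = 1 := fun h => by rw [← map_mul, mul_inv_cancel, map_one]
    let σ : H → (E ≃+* E) := fun h =>
      { toFun := fun e => ⟨c h * e * c h⁻¹, hE h e e.2⟩
        invFun := fun e => ⟨c h⁻¹ * e * c (h⁻¹)⁻¹, hE h⁻¹ e e.2⟩
        left_inv := fun e => Subtype.ext (by
          show c h⁻¹ * (c h * (e : AddMonoid.End V) * c h⁻¹) * c (h⁻¹)⁻¹ = e
          simp only [inv_inv, mul_assoc, hci, mul_one]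
          rw [← mul_assoc, hci, one_mul])
        right_inv := fun e => Subtype.ext (by
          show c h * (c h⁻¹ * (e : AddMonoid.End V) * c (h⁻¹)⁻¹) * c h⁻¹ = e
          simp only [inv_inv, mul_assoc, hci', mul_one]
          rw [← mul_assoc, hci', one_mul])
        map_mul' := fun x y => Subtype.ext (by
          show c h * ((x : AddMonoid.End V) * (y : AddMonoid.End V)) * c h⁻¹
            = (c h * x * c h⁻¹) * (c h * y * c h⁻¹)
          simp only [mul_assoc]
          rw [← mul_assoc (c h⁻¹) (c h), hci, one_mul])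
        map_add' := fun x y => Subtype.ext (by
          show c h * ((x : AddMonoid.End V) + (y : AddMonoid.End V)) * c h⁻¹
            = c h * x * c h⁻¹ + c h * y * c h⁻¹
          rw [mul_add, add_mul]) }
    let ψ : H →* Gal(E/ZMod p) :=
      { toFun := fun h => AlgEquiv.ofRingEquiv (f := σ h) fun x =>
          RingHom.congr_fun (RingHom.ext_zmod ((σ h : E →+* E).comp (algebraMap (ZMod p) E)) (algebraMap (ZMod p) E)) x
        map_one' := AlgEquiv.ext fun e => Subtype.ext (by
          show c 1 * (e : AddMonoid.End V) * c (1 : H)⁻¹ = e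
          rw [inv_one, map_one, one_mul, mul_one])
        map_mul' := fun a b => AlgEquiv.ext fun e => Subtype.ext (by
          show c (a * b) * (e : AddMonoid.End V) * c (a * b)⁻¹ = c a * (c b * e * c b⁻¹) * c a⁻¹
          rw [mul_inv_rev, map_mul, map_mul]
          simp only [mul_assoc]) }
    have hψ : ψ.ker = T := by
      ext h
      rw [MonoidHom.mem_ker]
      constructor
      · intro hh
        refine hcent h fun t ht => ?_
        have h1 : c h * c t * c h⁻¹ = c t :=
          congrArg Subtype.val (AlgEquiv.congr_fun hh (ζ ⟨t, ht⟩))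
        have ht' : h * t * h⁻¹ ∈ T := (inferInstance : T.Normal).conj_mem t ht h
        have h2 : (⟨h * t * h⁻¹, ht'⟩ : T) = ⟨t, ht⟩ := hζ (Subtype.ext (by
          show c (h * t * h⁻¹) = c t
          rw [map_mul, map_mul]; exact h1))
        exact mul_inv_eq_iff_eq_mul.mp (congrArg Subtype.val h2)
      · intro hh
        refine AlgEquiv.ext fun e => Subtype.ext ?_
        show c h * (e : AddMonoid.End V) * c h⁻¹ = e
        have h1 := congrArg (fun z : E => (z : AddMonoid.End V)) (hEc (ζ ⟨h, hh⟩) e)
        change c h * (e : AddMonoid.End V) = (e : AddMonoid.End V) * c h at h1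
        rw [h1, mul_assoc, hci', mul_one]
    haveI : Module.Finite (ZMod p) E := Module.Finite.of_finite
    have hfr : Module.finrank (ZMod p) E = d := by
      have h1 := Module.natCard_eq_pow_finrank (K := ZMod p) (V := E)
      rw [Nat.card_zmod, hcardE] at h1
      exact (Nat.pow_right_injective hp.out.two_le h1).symm
    haveI : IsCyclic ψ.range := Subgroup.isCyclic ψ.range
    obtain ⟨⟨_, h₀, rfl⟩, hgen⟩ := IsCyclic.exists_generator (α := ψ.range)
    refine ⟨⟨h₀, (eq_top_iff.mpr fun h _ => ?_).symm⟩, ?_⟩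
    · obtain ⟨k, hk⟩ := Subgroup.mem_zpowers_iff.mp (hgen ⟨ψ h, h, rfl⟩)
      have h1 : ψ h₀ ^ k = ψ h := congrArg Subtype.val hk
      have h2 : h * (h₀ ^ k)⁻¹ ∈ T := by
        rw [← hψ, MonoidHom.mem_ker, map_mul, map_inv, map_zpow, h1, mul_inv_cancel]
      have h3 := Subgroup.mul_mem_sup h2 (Subgroup.zpow_mem_zpowers h₀ k)
      rwa [inv_mul_cancel_right] at h3
    · rw [← Subgroup.card_mul_index ψ.ker, Subgroup.index_ker, hψ, hTcard]
      refine Nat.mul_dvd_mul_left q ?_
      rw [← hfr, ← IsGalois.card_aut_eq_finrank]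
      exact Subgroup.card_subgroup_dvd_card _

end Cfsg.Agent.Lib.ExtPrim
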