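import Cfsg.Agent.Lib.ExtPrim.Manning
import Cfsg.Agent.Lib.ExtPrim.MaxCentralizer
import Cfsg.Agent.Lib.Primitive62.Basic

/-!
An extremely primitive group is of affine type or almost simple (Mann–Praeger–Seress).
-/

set_option autoImplicit false
set_option linter.style.haveILetI false
set_option linter.unusedSectionVars false

namespace Cfsg.Agent.Lib.ExtPrim

open MulAction

variable {G : Type*} [Group G] {N : Subgroup G} {S : Type} [Group S] {k : ℕ}

/-- The embedding of the `i`-th factor. -/
def emb (e : N ≃* (Fin k → S)) (i : Fin k) : S →* G :=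
  N.subtype.comp (e.symm.toMonoidHom.comp (MonoidHom.mulSingle (fun _ : Fin k => S) i))

/-- The projection of `N` on the `i`-th factor. -/
def proj (e : N ≃* (Fin k → S)) (i : Fin k) : N →* S :=
  (Pi.evalMonoidHom (fun _ : Fin k => S) i).comp e.toMonoidHom

variable (e : N ≃* (Fin k → S)) (i : Fin k)

theorem emb_mem (s : S) : emb e i s ∈ N := (e.symm (Pi.mulSingle i s)).2

theorem emb_injective : Function.Injective (emb e i) := fun _ _ h =>
  Pi.mulSingle_injective i (e.symm.injective (Subtype.ext h))

theorem proj_emb (s : S) (h : emb e i s ∈ N) : proj e i ⟨emb e i s, h⟩ = s := by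
  show e (e.symm (Pi.mulSingle i s)) i = s
  simp

theorem conj_emb {n : G} (hn : n ∈ N) (s : S) :
    n * emb e i s * n⁻¹ = emb e i (proj e i ⟨n, hn⟩ * s * (proj e i ⟨n, hn⟩)⁻¹) := by
  have h1 : (⟨n, hn⟩ : N) * e.symm (Pi.mulSingle i s) * (⟨n, hn⟩ : N)⁻¹ =
      e.symm (Pi.mulSingle i (proj e i ⟨n, hn⟩ * s * (proj e i ⟨n, hn⟩)⁻¹)) := by
    apply e.injective
    rw [map_mul, map_mul, MulEquiv.apply_symm_apply, MulEquiv.apply_symm_apply, map_inv]
    ext j
    rcases eq_or_ne j i with rfl | hj
    · simp [proj]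
    · simp [hj]
  exact congrArg Subtype.val h1

theorem eq_one_of_commute_emb [IsSimpleGroup S] (hS : ¬ IsMulCommutative S) {n : G} (hn : n ∈ N)
    (h : ∀ t : S, n * emb e i t = emb e i t * n) : proj e i ⟨n, hn⟩ = 1 := by
  rw [← Subgroup.mem_bot, ← CharSimple.center_eq_bot hS, Subgroup.mem_center_iff]
  intro t
  have h1 := conj_emb e i hn t
  rw [h, mul_inv_cancel_right] at h1
  have h2 := emb_injective e i h1
  calc t * proj e i ⟨n, hn⟩ = proj e i ⟨n, hn⟩ * t * (proj e i ⟨n, hn⟩)⁻¹ * proj e i ⟨n, hn⟩ := by rw [← h2]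
    _ = proj e i ⟨n, hn⟩ * t := by group

/-- A conjugate of a factor is the factor itself or commutes with it. -/
theorem conj_emb_cases [hNn : N.Normal] [Finite S] [IsSimpleGroup S] (g : G) :
    (∀ s : S, ∃ s' : S, g * emb e i s * g⁻¹ = emb e i s') ∨
      (∀ s t : S, g * emb e i s * g⁻¹ * emb e i t = emb e i t * (g * emb e i s * g⁻¹)) := by
  let f : S →* G := (MulAut.conj g⁻¹).toMonoidHom.comp (emb e i)
  have hfmem : ∀ s, f s = g⁻¹ * emb e i s * g := fun s => by simp [f]
  let W : Subgroup S := (emb e i).range.comap f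
  have hW : W.Normal := by
    refine ⟨fun s hs t => ?_⟩
    obtain ⟨r, hr⟩ := hs
    have hn : f t ∈ N := by
      rw [hfmem]; simpa using hNn.conj_mem _ (emb_mem e i t) g⁻¹
    show f (t * s * t⁻¹) ∈ (emb e i).range
    rw [map_mul, map_mul, map_inv, ← hr, conj_emb e i hn]
    exact ⟨_, rfl⟩
  rcases hW.eq_bot_or_eq_top with h | h
  · right
    intro s t
    set a := g * emb e i s * g⁻¹ with ha
    have haN : a ∈ N := hNn.conj_mem _ (emb_mem e i s) g
    have h1 : a * emb e i t * a⁻¹ * (emb e i t)⁻¹ ∈ (emb e i).range := by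
      rw [conj_emb e i haN]
      exact Subgroup.mul_mem _ ⟨_, rfl⟩ (Subgroup.inv_mem _ ⟨_, rfl⟩)
    obtain ⟨r, hr⟩ := h1
    have h2 : r ∈ W := by
      show f r ∈ (emb e i).range
      rw [hfmem, hr]
      have hn : g⁻¹ * emb e i t * g ∈ N := by simpa using hNn.conj_mem _ (emb_mem e i t) g⁻¹
      rw [ha, show g⁻¹ * (g * emb e i s * g⁻¹ * emb e i t * (g * emb e i s * g⁻¹)⁻¹ * (emb e i t)⁻¹) * g
          = emb e i s * ((g⁻¹ * emb e i t * g) * (emb e i s)⁻¹ * (g⁻¹ * emb e i t * g)⁻¹) by group,
        ← map_inv, conj_emb e i hn]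
      exact Subgroup.mul_mem _ ⟨_, rfl⟩ ⟨_, rfl⟩
    rw [h, Subgroup.mem_bot] at h2
    rw [h2, map_one] at hr
    exact mul_inv_eq_iff_eq_mul.mp (mul_inv_eq_one.mp hr.symm)
  · left
    have hall : ∀ t : S, ∃ r : S, emb e i r = f t := fun t => (h ▸ Subgroup.mem_top t : t ∈ W)
    choose r hr using hall
    have hinj : Function.Injective r := fun a b hab => by
      have h1 : f a = f b := by rw [← hr a, ← hr b, hab]
      exact emb_injective e i ((MulAut.conj g⁻¹).injective h1)
    intro s
    obtain ⟨t, rfl⟩ := Finite.surjective_of_injective hinj s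
    refine ⟨t, ?_⟩
    rw [hr t, hfmem]; group

/-- The elements of `G_α` normalising the factor. -/
def factorStab [Finite G] {Ω : Type*} [MulAction G Ω] (α : Ω) : Subgroup (stabilizer G α) where
  carrier := {h | ∀ s : S, ∃ s' : S, (h : G) * emb e i s * (h : G)⁻¹ = emb e i s'}
  one_mem' := fun s => ⟨s, by simp⟩
  mul_mem' := fun {a b} ha hb s => by
    obtain ⟨s', hs'⟩ := hb s
    obtain ⟨s'', hs''⟩ := ha s'
    exact ⟨s'', by rw [← hs'', ← hs', Subgroup.coe_mul]; group⟩
  inv_mem' := fun {a} ha s => by
    obtain ⟨j, hj⟩ := mem_powers_iff_mem_zpowers.mpr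
      (Subgroup.inv_mem _ (Subgroup.mem_zpowers a))
    have key : ∀ j : ℕ, ∀ s : S, ∃ s' : S, ((a ^ j : stabilizer G α) : G) * emb e i s *
        ((a ^ j : stabilizer G α) : G)⁻¹ = emb e i s' := by
      intro j
      induction j with
      | zero => exact fun s => ⟨s, by simp⟩
      | succ j ih =>
        intro s
        obtain ⟨s', hs'⟩ := ih s
        obtain ⟨s'', hs''⟩ := ha s'
        exact ⟨s'', by rw [pow_succ', ← hs'', ← hs', Subgroup.coe_mul]; group⟩
    obtain ⟨s', hs'⟩ := key j s
    exact ⟨s', by rw [← (hj : a ^ j = a⁻¹)]; exact hs'⟩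

variable [Finite G] {Ω : Type*} [MulAction G Ω]

theorem mem_factorStab {α : Ω} {h : stabilizer G α} :
    h ∈ factorStab e i α ↔ ∀ s : S, ∃ s' : S, (h : G) * emb e i s * (h : G)⁻¹ = emb e i s' :=
  Iff.rfl

/-- If the stabiliser normalises a factor of a minimal normal transitive subgroup, there is only
one factor. -/
theorem factorStab_ne_top [N.Normal] [IsPretransitive N Ω] [IsSimpleGroup S]
    (hmin : ∀ M : Subgroup G, M.Normal → M ≤ N → M = ⊥ ∨ M = N) (hk : 2 ≤ k) (α : Ω) :
    factorStab e i α ≠ ⊤ := by
  intro h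
  have hnorm : (emb e i).range.Normal := by
    refine ⟨?_⟩
    rintro _ ⟨s, rfl⟩ g
    obtain ⟨n, hn, hnα⟩ := Perm.exists_mem_smul_eq N α (g • α)
    have hh : n⁻¹ * g ∈ stabilizer G α := by
      rw [mem_stabilizer_iff, mul_smul, ← hnα, inv_smul_smul]
    obtain ⟨s', hs'⟩ := mem_factorStab e i |>.mp (h ▸ Subgroup.mem_top (⟨_, hh⟩ : stabilizer G α)) s
    have h1 : g * emb e i s * g⁻¹ = n * ((n⁻¹ * g) * emb e i s * (n⁻¹ * g)⁻¹) * n⁻¹ := by group
    rw [h1, show (n⁻¹ * g) * emb e i s * (n⁻¹ * g)⁻¹ = emb e i s' from hs', conj_emb e i hn]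
    exact ⟨_, rfl⟩
  have hle : (emb e i).range ≤ N := by
    rintro _ ⟨s, rfl⟩; exact emb_mem e i s
  obtain ⟨s, hs⟩ := exists_ne (1 : S)
  rcases hmin _ hnorm hle with h1 | h1
  · have h2 : emb e i s ∈ (emb e i).range := ⟨s, rfl⟩
    rw [h1, Subgroup.mem_bot] at h2
    exact hs (emb_injective e i (h2.trans (map_one _).symm))
  · obtain ⟨j, hj⟩ : ∃ j : Fin k, j ≠ i := by
      by_contra hne
      push Not at hne
      have h0 := hne ⟨0, by omega⟩
      have h2 := hne ⟨1, by omega⟩
      rw [← h0] at h2
      simp [Fin.ext_iff] at h2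
    obtain ⟨r, hr⟩ : emb e j s ∈ (emb e i).range := by rw [h1]; exact emb_mem e j s
    have h3 : e.symm (Pi.mulSingle i r) = e.symm (Pi.mulSingle j s) := Subtype.ext hr
    have h4 := congrFun (e.symm.injective h3) j
    simp [hj] at h4
    exact hs h4.symm

variable [FaithfulSMul G Ω] [IsSimpleGroup S] [Finite S]

include e i in
/-- The regular case. -/
theorem no_regular_socle (hT : NoLocalComplement) (hprim : IsPreprimitive G Ω)
    (hep : OrbitPrimitive G Ω) [hNn : N.Normal] [IsPretransitive N Ω]
    (hmin : ∀ M : Subgroup G, M.Normal → M ≤ N → M = ⊥ ∨ M = N) (hS : ¬ IsMulCommutative S)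
    (hreg : ∀ a : Ω, stabilizer N a = ⊥)
    (hC : Subgroup.centralizer (N : Set G) ≠ ⊥ ∨ 2 ≤ k) (α : Ω) : False := by
  classical
  haveI := hprim
  haveI : IsPretransitive G Ω := inferInstance
  set H := stabilizer G α with hHdef
  have huniq : ∀ a ∈ N, ∀ b ∈ N, a • α = b • α → a = b := by
    intro a ha b hb hab
    have h1 := Perm.stabilizer_subgroup_eq_bot_iff.mp (hreg α) (b⁻¹ * a)
      (N.mul_mem (N.inv_mem hb) ha) (by rw [mul_smul, hab, inv_smul_smul])
    exact (inv_mul_eq_one.mp h1).symm
  have hact : ∀ (h : H) (n : G), ((h : G) * n * (h : G)⁻¹) • α = (h : G) • n • α := fun h n => by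
    rw [mul_smul, mul_smul, show (h : G)⁻¹ • α = α from H.inv_mem h.2]
  have hNtop : Nontrivial Ω := by
    obtain ⟨s, hs⟩ := exists_ne (1 : S)
    refine ⟨⟨α, emb e i s • α, fun h => hs (emb_injective e i ?_)⟩⟩
    rw [map_one]
    exact huniq _ (emb_mem e i s) 1 N.one_mem (by rw [one_smul]; exact h.symm)
  -- centralisers of non-trivial elements of `N` are maximal in `H`
  have hmax : ∀ n ∈ N, n ≠ 1 → IsCoatom (stabilizer H (n • α)) := by
    intro n hn hn1
    haveI := hep α (n • α)
    let ω₀ : orbit H (n • α) := ⟨n • α, mem_orbit_self _⟩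
    have hst : stabilizer H ω₀ = stabilizer H (n • α) := by
      ext h; rw [mem_stabilizer_iff, mem_stabilizer_iff, Subtype.ext_iff]; rfl
    haveI : Nontrivial (orbit H (n • α)) := by
      by_contra hsub
      rw [not_nontrivial_iff_subsingleton] at hsub
      have hfix : H ≤ stabilizer G (n • α) := fun h hh => by
        let h' : H := ⟨h, hh⟩
        exact congrArg Subtype.val (hsub.elim (h' • ω₀) ω₀)
      have hmaxα := IsPreprimitive.isCoatom_stabilizer_of_isPreprimitive G α
      rcases hmaxα.le_iff.mp hfix with h | h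
      · exact (IsPreprimitive.isCoatom_stabilizer_of_isPreprimitive G (n • α)).1 h
      · have hnn : n ∈ Subgroup.normalizer (H : Set G) := by
          rw [Subgroup.mem_normalizer_iff]
          intro x
          have h2 : n * x * n⁻¹ ∈ stabilizer G (n • α) ↔ x ∈ H := by
            rw [mem_stabilizer_iff, hHdef, mem_stabilizer_iff, ← mul_smul, inv_mul_cancel_right,
              mul_smul, smul_left_cancel_iff]
          rw [h] at h2
          exact h2.symm
        rcases hmaxα.le_iff.mp (Subgroup.le_normalizer (H := H)) with h3 | h3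
        · haveI : (stabilizer G α).Normal := Subgroup.normalizer_eq_top_iff.mp h3
          have hbot := Primitive62.eq_bot_of_normal_le_stabilizer (stabilizer G α) α le_rfl
          -- the group is then regular and `N` is everything
          have hcop := hmaxα
          rw [hbot] at hcop
          obtain ⟨q, hq, hqd⟩ := Nat.exists_prime_and_dvd (n := Nat.card S) Finite.one_lt_card.ne'
          haveI : Fact q.Prime := ⟨hq⟩
          obtain ⟨s, hs⟩ := exists_prime_orderOf_dvd_card' (G := S) q hqd
          have hs1 : s ≠ 1 := fun h => hq.ne_one (by rw [← hs, h, orderOf_one])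
          have htop : Subgroup.zpowers (emb e i s) = ⊤ := hcop.2 _ (bot_lt_iff_ne_bot.mpr fun h =>
            hs1 (emb_injective e i ((Subgroup.zpowers_eq_bot.mp h).trans (map_one _).symm)))
          refine hS (IsMulCommutative.of_comm fun a b => emb_injective e i ?_)
          obtain ⟨u, hu⟩ := Subgroup.mem_zpowers_iff.mp (htop ▸ Subgroup.mem_top (emb e i a))
          obtain ⟨v, hv⟩ := Subgroup.mem_zpowers_iff.mp (htop ▸ Subgroup.mem_top (emb e i b))
          rw [map_mul, map_mul, ← hu, ← hv, zpow_mul_comm]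
        · rw [h3] at hnn
          exact hn1 (huniq n hn 1 N.one_mem (by rw [one_smul]; exact hnn))
    rw [← hst]
    exact IsPreprimitive.isCoatom_stabilizer_of_isPreprimitive H ω₀
  have hfix : ∀ (h : H), ∀ n ∈ N, (h ∈ stabilizer H (n • α) ↔ (h : G) * n * (h : G)⁻¹ = n) := by
    intro h n hn
    constructor
    · intro hh
      exact huniq _ (hNn.conj_mem n hn _) n hn ((hact h n).trans hh)
    · intro hh
      show (h : G) • n • α = n • α
      rw [← hact, hh]
  -- inner automorphisms realised in `H` when the centraliser is non-trivial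
  have hd : Subgroup.centralizer (N : Set G) ≠ ⊥ → ∀ n ∈ N, ∃ h : H,
      ∀ m ∈ N, (h : G) * m * (h : G)⁻¹ = n * m * n⁻¹ := by
    intro hCne n hn
    haveI := Perm.normal_isPretransitive_of_ne_bot (X := Ω) _ hCne
    obtain ⟨c, hc, hcα⟩ := Perm.exists_mem_smul_eq (Subgroup.centralizer (N : Set G)) (n • α) α
    refine ⟨⟨c * n, by rw [hHdef, mem_stabilizer_iff, mul_smul]; exact hcα⟩, fun m hm => ?_⟩
    have h1 : (n * m * n⁻¹) * c = c * (n * m * n⁻¹) :=
      Subgroup.mem_centralizer_iff.mp hc _ (hNn.conj_mem m hm n)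
    show c * n * m * (c * n)⁻¹ = _
    calc c * n * m * (c * n)⁻¹ = c * (n * m * n⁻¹) * c⁻¹ := by group
      _ = n * m * n⁻¹ := by rw [← h1]; group
  by_cases hk : 2 ≤ k
  · -- the stabiliser of a factor centralises it
    set L := factorStab e i α with hL
    have hLC : ∀ h ∈ L, ∀ s : S, (h : G) * emb e i s * (h : G)⁻¹ = emb e i s := by
      intro h hh s
      by_cases hs : s = 1
      · simp [hs]
      have hn1 : emb e i s ≠ 1 := fun h => hs (emb_injective e i (h.trans (map_one _).symm))
      have hle : stabilizer H (emb e i s • α) ≤ L := by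
        intro a ha
        have hfx := (hfix a _ (emb_mem e i s)).mp ha
        refine (conj_emb_cases e i (a : G)).resolve_right fun hcom => hs ?_
        have := eq_one_of_commute_emb e i hS (emb_mem e i s) fun t => by
          have := hcom s t; rwa [hfx] at this
        rwa [proj_emb] at this
      have heq := ((hmax _ (emb_mem e i s) hn1).le_iff.mp hle).resolve_left (factorStab_ne_top e i hmin hk α)
      exact (hfix h _ (emb_mem e i s)).mp (heq ▸ hh)
    obtain ⟨s, hs⟩ := exists_ne (1 : S)
    by_cases hCb : Subgroup.centralizer (N : Set G) = ⊥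
    · -- the product of the conjugates of an element of the factor is centralised by `H`
      let x := emb e i s
      let X : Set G := Set.range fun h : H => (h : G) * x * (h : G)⁻¹
      have hXN : X ⊆ N := by rintro _ ⟨h, rfl⟩; exact hNn.conj_mem _ (emb_mem e i s) _
      have hdich : ∀ g : H, (g : G) * x * (g : G)⁻¹ = x ∨
          ∀ t : S, (g : G) * x * (g : G)⁻¹ * emb e i t = emb e i t * ((g : G) * x * (g : G)⁻¹) := by
        intro g
        rcases conj_emb_cases e i (g : G) with h | h
        · exact Or.inl (hLC g h s)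
        · exact Or.inr fun t => h s t
      have hcomm : ∀ u ∈ X, ∀ v ∈ X, u * v = v * u := by
        rintro _ ⟨a, rfl⟩ _ ⟨b, rfl⟩
        rcases hdich (a⁻¹ * b) with h | h
        · have : (b : G) * x * (b : G)⁻¹ = (a : G) * x * (a : G)⁻¹ := by
            conv_rhs => rw [← h]
            push_cast; group
          simp only [this]
        · have h1 := h s
          push_cast at h1
          have h2 : (a : G)⁻¹ * b * x * ((a : G)⁻¹ * b)⁻¹ = (a : G)⁻¹ * ((b : G) * x * (b : G)⁻¹) * a := by group
          rw [h2] at h1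
          show (a : G) * x * (a : G)⁻¹ * ((b : G) * x * (b : G)⁻¹) = (b : G) * x * (b : G)⁻¹ * ((a : G) * x * (a : G)⁻¹)
          calc (a : G) * x * (a : G)⁻¹ * ((b : G) * x * (b : G)⁻¹)
              = (a : G) * (x * ((a : G)⁻¹ * ((b : G) * x * (b : G)⁻¹) * a)) * (a : G)⁻¹ := by group
            _ = (a : G) * (((a : G)⁻¹ * ((b : G) * x * (b : G)⁻¹) * a) * x) * (a : G)⁻¹ := by rw [h1]
            _ = _ := by group
      let A := Subgroup.closure X
      haveI : IsMulCommutative A := Subgroup.isMulCommutative_closure hcomm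
      letI : CommGroup A := { (inferInstance : Group A) with mul_comm := fun a b => mul_comm' a b }
      haveI : Fintype X := Fintype.ofFinite X
      let z : A := ∏ u : X, ⟨(u : G), Subgroup.subset_closure u.2⟩
      have hAN : A ≤ N := (Subgroup.closure_le _).mpr hXN
      have hzproj : proj e i ⟨z, hAN z.2⟩ = s := by
        let f : A →* S := (proj e i).comp (Subgroup.inclusion hAN)
        show f z = s
        haveI : IsMulCommutative f.range := IsMulCommutative.of_comm fun a b => by
          obtain ⟨_, a', rfl⟩ := a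
          obtain ⟨_, b', rfl⟩ := b
          exact Subtype.ext (by rw [Subgroup.coe_mul, Subgroup.coe_mul, ← map_mul, ← map_mul, mul_comm])
        letI : CommGroup f.range := { (inferInstance : Group f.range) with mul_comm := fun a b => mul_comm' a b }
        have hxX : x ∈ X := ⟨1, by simp⟩
        have h1 : f.rangeRestrict z = f.rangeRestrict ⟨x, Subgroup.subset_closure hxX⟩ := by
          rw [map_prod, Finset.prod_eq_single (⟨x, hxX⟩ : X)]
          · rintro ⟨_, g, rfl⟩ - hne
            rcases hdich g with h | h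
            · exact absurd (Subtype.ext h) hne
            · exact Subtype.ext (eq_one_of_commute_emb e i hS (hXN ⟨g, rfl⟩) h)
          · intro h; exact absurd (Finset.mem_univ _) h
        have h2 := congrArg Subtype.val h1
        rw [MonoidHom.coe_rangeRestrict, MonoidHom.coe_rangeRestrict] at h2
        rw [h2]
        exact proj_emb e i s _
      have hzfix : ∀ h : H, (h : G) * (z : G) * (h : G)⁻¹ = z := by
        intro h
        have hcl : ∀ a ∈ A, (h : G) * a * (h : G)⁻¹ ∈ A := by
          intro a ha
          have : A ≤ A.comap (MulAut.conj (h : G)).toMonoidHom := by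
            refine (Subgroup.closure_le _).mpr ?_
            rintro _ ⟨g, rfl⟩
            refine Subgroup.subset_closure ⟨h * g, ?_⟩
            push_cast
            simp only [MulEquiv.coe_toMonoidHom, MulAut.conj_apply]
            group
          exact this ha
        let c : A →* A :=
          { toFun := fun a => ⟨(h : G) * a * (h : G)⁻¹, hcl a a.2⟩
            map_one' := Subtype.ext (by simp)
            map_mul' := fun a b => Subtype.ext (by push_cast; group) }
        let p : X → X := fun u => ⟨(h : G) * u * (h : G)⁻¹, by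
          obtain ⟨g, hg⟩ := u.2
          exact ⟨h * g, by rw [← hg]; push_cast; group⟩⟩
        have hp : Function.Bijective p := Finite.injective_iff_bijective.mp fun u v huv =>
          Subtype.ext (by simpa [p] using congrArg Subtype.val huv)
        have h1 : c z = z := by
          rw [map_prod]
          exact Fintype.prod_bijective p hp _ _ fun u => rfl
        exact congrArg Subtype.val h1
      have hz1 : (z : G) ≠ 1 := fun h => hs (by
        rw [← hzproj, show (⟨(z : G), hAN z.2⟩ : N) = 1 from Subtype.ext h, map_one])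
      exact (hmax _ (hAN z.2) hz1).1 (eq_top_iff.mpr fun h _ => (hfix h _ (hAN z.2)).mpr (hzfix h))
    · obtain ⟨t, ht⟩ : ∃ t : S, t * s ≠ s * t := by
        by_contra h
        push Not at h
        exact hs (Subgroup.mem_bot.mp (CharSimple.center_eq_bot hS ▸ Subgroup.mem_center_iff.mpr h))
      obtain ⟨h, hh⟩ := hd hCb _ (emb_mem e i t)
      have hhL : h ∈ L := fun r => ⟨t * r * t⁻¹, by
        rw [hh _ (emb_mem e i r), map_mul, map_mul, map_inv]⟩
      have h1 := hLC h hhL s
      rw [hh _ (emb_mem e i s), ← map_inv, ← map_mul, ← map_mul] at h1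
      exact ht (mul_inv_eq_iff_eq_mul.mp (emb_injective e i h1))
  · -- one factor
    obtain rfl : k = 1 := by have := i.2; omega
    have hCne := hC.resolve_right hk
    have hip : ∀ n : G, ∀ hn : n ∈ N, emb e i (proj e i ⟨n, hn⟩) = n := by
      intro n hn
      show ((e.symm (Pi.mulSingle i (e ⟨n, hn⟩ i)) : N) : G) = n
      have : Pi.mulSingle i (e ⟨n, hn⟩ i) = e ⟨n, hn⟩ := by
        ext j
        rw [Subsingleton.elim j i, Pi.mulSingle_eq_same]
      rw [this, MulEquiv.symm_apply_apply]
    let act : H → S → S := fun h y =>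
      proj e i ⟨(h : G) * emb e i y * (h : G)⁻¹, hNn.conj_mem _ (emb_mem e i y) _⟩
    have hact' : ∀ h y, emb e i (act h y) = (h : G) * emb e i y * (h : G)⁻¹ := fun h y => hip _ _
    letI : MulAction H S :=
      { smul := act
        one_smul := fun y => emb_injective e i (by
          show emb e i (act 1 y) = _
          rw [hact']; simp)
        mul_smul := fun a b y => emb_injective e i (by
          show emb e i (act (a * b) y) = emb e i (act a (act b y))
          rw [hact', hact', hact', Subgroup.coe_mul]; group) }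
    have hsmul : ∀ (h : H) (y : S), emb e i (h • y) = (h : G) * emb e i y * (h : G)⁻¹ := hact'
    have hex : ∀ s : S, ∃ h : H, ∀ y : S, h • y = s * y * s⁻¹ := fun s => by
      obtain ⟨h, hh⟩ := hd hCne _ (emb_mem e i s)
      exact ⟨h, fun y => emb_injective e i (by
        rw [hsmul, hh _ (emb_mem e i y), map_mul, map_mul, map_inv])⟩
    -- an element of `H` is determined by its action on `N`
    have hfaith : ∀ a b : H, (∀ y : S, a • y = b • y) → a = b := by
      intro a b hab
      have h1 : ∀ n ∈ N, ((b⁻¹ * a : H) : G) * n = n * ((b⁻¹ * a : H) : G) := by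
        intro n hn
        have h2 : (b⁻¹ * a) • proj e i ⟨n, hn⟩ = proj e i ⟨n, hn⟩ := by
          rw [mul_smul, hab, inv_smul_smul]
        have h3 := hsmul (b⁻¹ * a) (proj e i ⟨n, hn⟩)
        rw [h2, hip] at h3
        exact (mul_inv_eq_iff_eq_mul.mp h3.symm)
      have h4 := Perm.eq_one_of_commute_transitive N h1 (b⁻¹ * a).2
      exact (inv_mul_eq_one.mp (Subtype.ext h4)).symm
    choose d hd' using hex
    let φ : S →* H := MonoidHom.mk' d fun a b => hfaith _ _ fun y => by
      rw [mul_smul, hd', hd', hd']; group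
    refine no_maximal_centralizers hT hS (H := H) (fun h y j => ?_) φ ?_ ?_ (fun s y => hd' s y) ?_
    · induction j with
      | zero =>
        rw [pow_zero, pow_zero]
        exact emb_injective e i (by rw [hsmul]; simp)
      | succ j ih =>
        rw [pow_succ, pow_succ, ← ih]
        exact emb_injective e i (by rw [hsmul, map_mul, map_mul, hsmul, hsmul]; group)
    · refine (injective_iff_map_eq_one φ).mpr fun s hs => ?_
      rw [← Subgroup.mem_bot, ← CharSimple.center_eq_bot hS, Subgroup.mem_center_iff]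
      intro y
      have := hd' s y
      rw [show d s = 1 from hs, one_smul] at this
      exact eq_mul_inv_iff_mul_eq.mp this
    · refine ⟨?_⟩
      rintro _ ⟨s, rfl⟩ h
      refine ⟨h • s, hfaith _ _ fun y => ?_⟩
      show d (h • s) • y = _
      rw [hd', mul_smul, mul_smul, show φ s • (h⁻¹ • y) = s * (h⁻¹ • y) * s⁻¹ from hd' s _]
      refine emb_injective e i ?_
      rw [hsmul, map_mul, map_mul, map_inv, map_mul, map_mul, map_inv, hsmul, hsmul]
      push_cast; group
    · intro y hy
      have hn1 : emb e i y ≠ 1 := fun h => hy (emb_injective e i (h.trans (map_one _).symm))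
      have heq : stabilizer H y = stabilizer H (emb e i y • α) := by
        ext h
        rw [hfix h _ (emb_mem e i y), mem_stabilizer_iff, ← hsmul]
        exact ⟨fun h => by rw [h], fun h => emb_injective e i h⟩
      rw [heq]
      exact hmax _ (emb_mem e i y) hn1

end Cfsg.Agent.Lib.ExtPrim
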