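import Cfsg.Agent.Lib.ExtPrim.Main
import Cfsg.Agent.Lib.ThompsonNPC.Thompson
import Cfsg.Agent.Lib.PGroup.Thompson

/-!
`NoLocalComplement` follows from Thompson's normal `p`-complement theorem.
-/

set_option autoImplicit false
set_option linter.style.haveILetI false

namespace Cfsg.Agent.Lib.ExtPrim

theorem hasNormalPComplement_of_le {S : Type} [Group S] [Finite S] (p : ℕ) [Fact p.Prime]
    (P : Sylow p S) {K : Subgroup S} (h : K ≤ (P : Subgroup S)) :
    Cfsg.HasNormalPComplement p K := by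
  obtain ⟨Q⟩ : Nonempty (Sylow p K) := inferInstance
  have hK : IsPGroup p K := P.isPGroup'.to_le h
  have htop : IsPGroup p (⊤ : Subgroup K) := hK.to_subgroup ⊤
  have hQ : (Q : Subgroup K) = ⊤ := (Q.is_maximal' htop le_top).symm
  exact ⟨Q, ⊥, inferInstance, hQ ▸ Subgroup.isComplement'_bot_top⟩

theorem noLocalComplement : NoLocalComplement := by
  intro S _ _ _ hS p _ hp P hP hW
  obtain ⟨n, hn⟩ := IsPGroup.iff_card.mp P.isPGroup'
  have hn0 : n ≠ 0 := fun h => hP (Subgroup.eq_bot_of_card_eq _ (by rw [hn, h, pow_zero]))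
  have hdvd : p ∣ Nat.card (P : Subgroup S) := hn ▸ dvd_pow_self p hn0
  haveI : Nontrivial (P : Subgroup S) := (Subgroup.nontrivial_iff_ne_bot _).mpr hP
  -- the two characteristic subgroups
  have hJ : Cfsg.HasNormalPComplement p
      (Subgroup.normalizer (Cfsg.thompsonSubgroupOf p (P : Subgroup S) : Set S)) := by
    refine hasNormalPComplement_of_le p P (hW _ (Thompson.thompsonSubgroupOf_le p _)
      (Thompson.thompsonSubgroupOf_ne_bot hdvd) fun a ha => ?_)
    rw [← Thompson.thompsonSubgroupOf_map (f := a.toMonoidHom) a.injective, ha]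
  set Z := (P : Subgroup S) ⊓ Subgroup.centralizer ((P : Subgroup S) : Set S) with hZ
  have hZne : Z ≠ ⊥ := by
    have hc := P.isPGroup'.center_nontrivial
    intro h
    obtain ⟨⟨z, hz⟩, hz1⟩ := exists_ne (1 : Subgroup.center (P : Subgroup S))
    have hmem : (z : S) ∈ Z := ⟨z.2, Subgroup.mem_centralizer_iff.mpr fun x hx =>
      congrArg Subtype.val (Subgroup.mem_center_iff.mp hz ⟨x, hx⟩)⟩
    rw [h, Subgroup.mem_bot] at hmem
    exact hz1 (Subtype.ext (Subtype.ext hmem))
  have hZc : Cfsg.HasNormalPComplement p (Subgroup.centralizer (Z : Set S)) := by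
    refine hasNormalPComplement_of_le p P (le_trans ?_ (hW Z inf_le_left hZne fun a ha => ?_))
    · intro x hx
      refine Subgroup.mem_normalizer_iff.mpr fun z => ?_
      have hx' := Subgroup.mem_centralizer_iff.mp hx
      constructor
      · intro hz
        rw [← hx' z hz, mul_inv_cancel_right]; exact hz
      · intro hz
        have h1 := hx' _ hz
        have h2 : x * z * x⁻¹ = z := by
          have h3 : x * z = x * (x * z * x⁻¹) := by rw [← h1, inv_mul_cancel_right]
          exact (mul_left_cancel h3).symm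
        rwa [h2] at hz
    · have hmem : ∀ x : S, x ∈ (P : Subgroup S) → a x ∈ (P : Subgroup S) := fun x hx =>
        ha.le ⟨x, hx, rfl⟩
      ext x
      constructor
      · rintro ⟨z, ⟨hz, hzc⟩, rfl⟩
        refine ⟨hmem z hz, Subgroup.mem_centralizer_iff.mpr fun y hy => ?_⟩
        obtain ⟨y', hy', rfl⟩ := ha.ge hy
        show a y' * a z = a z * a y'
        rw [← map_mul, ← map_mul, Subgroup.mem_centralizer_iff.mp hzc y' hy']
      · rintro ⟨hx, hxc⟩
        obtain ⟨z, hz, rfl⟩ := ha.ge hx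
        refine ⟨z, ⟨hz, Subgroup.mem_centralizer_iff.mpr fun y hy => a.injective ?_⟩, rfl⟩
        rw [map_mul, map_mul]
        exact Subgroup.mem_centralizer_iff.mp hxc (a y) (hmem y hy)
  obtain ⟨Q, K, hKn, hKc⟩ := (ThompsonNPC.hasNormalPComplement_iff_thompson hp P).mpr ⟨hJ, hZc⟩
  rcases hKn.eq_bot_or_eq_top with h | h
  · have hQ : (Q : Subgroup S) = ⊤ := Subgroup.isComplement'_bot_left.mp (h ▸ hKc)
    have hpS : IsPGroup p S := fun x => by
      obtain ⟨j, hj⟩ := Q.isPGroup' ⟨x, hQ ▸ Subgroup.mem_top x⟩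
      exact ⟨j, congrArg Subtype.val hj⟩
    exact Primitive62.not_isPGroup_of_simple hS p hpS
  · have hQ : (Q : Subgroup S) = ⊥ := Subgroup.isComplement'_top_left.mp (h ▸ hKc)
    have hcard := Q.card_eq_multiplicity
    rw [hQ, Subgroup.card_bot, ← P.card_eq_multiplicity] at hcard
    exact hP (Subgroup.eq_bot_of_card_eq _ hcard.symm)

end Cfsg.Agent.Lib.ExtPrim
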